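import Cfsg.Agent.AbCentFpf.Lemmas

/-!
Bender's method for a minimal counterexample: a suitable maximal invariant subgroup `M` is the only
one containing `F(M)`, and contains the centralisers of the invariant subgroups of `F(M)`.
-/

set_option autoImplicit false

open Subgroup
open scoped commutatorElement

namespace Cfsg.Agent.AbCentFpf

universe u

variable {Γ : Type u} [Group Γ] [Finite Γ] {q : ℕ}

/-- A minimal counterexample. -/
structure Min (q : ℕ) (A G : Subgroup Γ) : Prop extends Setup q A G where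
  proper : ∀ H : Subgroup Γ, H ≤ G → H ≠ G → A ≤ normalizer (H : Set Γ) → Group.IsSolvable H
  simple : ∀ N : Subgroup Γ, N ≤ G → A ≤ normalizer (N : Set Γ) → G ≤ normalizer (N : Set Γ) →
    N = ⊥ ∨ N = G
  notSolv : ¬ Group.IsSolvable G

/-- Maximal proper `A`-invariant subgroups. -/
def IsMax (A G M : Subgroup Γ) : Prop :=
  (M ≤ G ∧ M ≠ G ∧ A ≤ normalizer (M : Set Γ)) ∧
    ∀ L : Subgroup Γ, M ≤ L → L ≤ G → L ≠ G → A ≤ normalizer (L : Set Γ) → L = M

/-- The centre of `F(M)`. -/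
def Zc (M : Subgroup Γ) : Subgroup Γ := Ftg M ⊓ centralizer (Ftg M : Set Γ)

/-- `Z(F(M))` has fixed points on two lines. -/
def Two (A M : Subgroup Γ) : Prop :=
  ∃ g ∈ A, ∃ h ∈ A, g ≠ 1 ∧ h ∉ zpowers g ∧
    (∃ x ∈ Zc M, x ≠ 1 ∧ Commute x g) ∧ ∃ y ∈ Zc M, y ≠ 1 ∧ Commute y h

/-- The class used for the extremal choice. -/
def InClass (A G M : Subgroup Γ) : Prop := IsMax A G M ∧ ¬ Group.IsNilpotent M ∧ Two A M

/-- The extremal choice. -/
def Good (A G M : Subgroup Γ) : Prop :=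
  IsMax A G M ∧ ¬ Group.IsNilpotent M ∧
    ((∀ L, ¬ InClass A G L) ∨
      (InClass A G M ∧ ∀ L, InClass A G L → Nat.card (Ftg L) ≤ Nat.card (Ftg M)))

theorem le_normalizer_cent {A X : Subgroup Γ} (h : A ≤ normalizer (X : Set Γ)) :
    A ≤ normalizer (centralizer (X : Set Γ) : Set Γ) := Coprime.le_normalizer_centralizer h

theorem le_normalizer_norm {A X : Subgroup Γ} (h : A ≤ normalizer (X : Set Γ)) :
    A ≤ normalizer (normalizer (X : Set Γ) : Set Γ) := h.trans le_normalizer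

theorem le_normalizer_cent_single {q : ℕ} {A K : Subgroup Γ} (S : Base q A K) {g : Γ} (hg : g ∈ A) :
    A ≤ normalizer (centralizer ({g} : Set Γ) : Set Γ) := by
  refine fun a ha => le_normalizer (mem_cent.mpr (S.commA a ha g hg))

variable {A G : Subgroup Γ}

theorem exists_isMax {H : Subgroup Γ} (hH : H ≤ G) (hne : H ≠ G)
    (hA : A ≤ normalizer (H : Set Γ)) : ∃ M, IsMax A G M ∧ H ≤ M := by
  obtain ⟨M, ⟨hM1, hM2, hM3, hHM⟩, hmax⟩ := wellFounded_gt.has_min
    {M : Subgroup Γ | M ≤ G ∧ M ≠ G ∧ A ≤ normalizer (M : Set Γ) ∧ H ≤ M}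
    ⟨H, hH, hne, hA, le_rfl⟩
  refine ⟨M, ⟨⟨hM1, hM2, hM3⟩, fun L h1 h2 h3 h4 => ?_⟩, hHM⟩
  by_contra h
  exact hmax L ⟨h2, h3, h4, hHM.trans h1⟩ (lt_of_le_of_ne h1 (Ne.symm h))

variable {M : Subgroup Γ}

theorem IsMax.setup (hM : IsMax A G M) (S : Min q A G) : Setup q A M := S.toSetup.mono hM.1.1 hM.1.2.2

theorem IsMax.solvable (hM : IsMax A G M) (S : Min q A G) : Group.IsSolvable M :=
  S.proper M hM.1.1 hM.1.2.1 hM.1.2.2

theorem Min.ne_top_of_le (S : Min q A G) (hM : IsMax A G M) {X : Subgroup Γ} (hXM : X ≤ M) :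
    X ≠ G := fun h => hM.1.2.1 (le_antisymm hM.1.1 (h ▸ hXM))

theorem Min.norm_ne (S : Min q A G) (hM : IsMax A G M) {X : Subgroup Γ} (hXM : X ≤ M) (hX : X ≠ ⊥)
    (hA : A ≤ normalizer (X : Set Γ)) : G ⊓ normalizer (X : Set Γ) ≠ G := by
  intro h
  rcases S.simple X (hXM.trans hM.1.1) hA (h.ge.trans inf_le_right) with h' | h'
  · exact hX h'
  · exact S.ne_top_of_le hM hXM h'

theorem Min.cent_ne (S : Min q A G) (hM : IsMax A G M) {X : Subgroup Γ} (hXM : X ≤ M) (hX : X ≠ ⊥)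
    (hA : A ≤ normalizer (X : Set Γ)) : G ⊓ centralizer (X : Set Γ) ≠ G := fun h =>
  S.norm_ne hM hXM hX hA (le_antisymm inf_le_left
    (le_inf le_rfl (h.ge.trans (inf_le_right.trans (centralizer_le_normalizer _)))))

theorem IsMax.norm_eq (hM : IsMax A G M) (S : Min q A G) {X : Subgroup Γ} (hXM : X ≤ M) (hX : X ≠ ⊥)
    (hA : A ≤ normalizer (X : Set Γ)) (hn : M ≤ normalizer (X : Set Γ)) :
    G ⊓ normalizer (X : Set Γ) = M :=
  hM.2 _ (le_inf hM.1.1 hn) inf_le_left (S.norm_ne hM hXM hX hA)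
    (Coprime.le_normalizer_inf S.norm (le_normalizer_norm hA))

theorem IsMax.mem_of_commute (hM : IsMax A G M) (S : Min q A G) {X : Subgroup Γ} (hXM : X ≤ M)
    (hX : X ≠ ⊥) (hA : A ≤ normalizer (X : Set Γ)) (hn : M ≤ normalizer (X : Set Γ)) {x : Γ}
    (hx : x ∈ G) (hc : x ∈ centralizer (X : Set Γ)) : x ∈ M :=
  (hM.norm_eq S hXM hX hA hn).le ⟨hx, centralizer_le_normalizer _ hc⟩

theorem IsMax.ne_bot (hM : IsMax A G M) (hn : ¬ Group.IsNilpotent M) : M ≠ ⊥ := by
  rintro rfl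
  exact hn inferInstance

theorem cor_ne_of_dvd {p : ℕ} [Fact p.Prime] {K : Subgroup Γ} (h : p ∣ Nat.card (Ftg K)) :
    Cor p K ≠ ⊥ := by
  intro hb
  obtain ⟨x, hx⟩ := exists_prime_orderOf_dvd_card' (G := Ftg K) p h
  have hle : zpowers (x : Γ) ≤ Ftg K := zpowers_le.mpr x.2
  have hp : IsPGroup p (zpowers (x : Γ)) := IsPGroup.of_card (n := 1) (by
    rw [Nat.card_zpowers, Subgroup.orderOf_coe, hx, pow_one])
  have := le_cor_of_le_ftg hp hle
  rw [hb, le_bot_iff, zpowers_eq_bot] at this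
  rw [show x = 1 from Subtype.ext this, orderOf_one] at hx
  exact (Fact.out : p.Prime).one_lt.ne hx

theorem exists_cor_ne {K : Subgroup Γ} (hs : Group.IsSolvable K) (hK : K ≠ ⊥) :
    ∃ p : ℕ, p.Prime ∧ Cor p K ≠ ⊥ := by
  have := hs
  have : Nontrivial K := (nontrivial_iff_ne_bot K).mpr hK
  have hF : Ftg K ≠ ⊥ := fun h =>
    Core.fittingSubgroup_ne_bot (G := K) ((map_eq_bot_iff_of_injective _ K.subtype_injective).mp h)
  obtain ⟨p, hp, hpd⟩ := Nat.exists_prime_and_dvd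
    (show Nat.card (Ftg K) ≠ 1 from fun h => hF (Subgroup.card_eq_one.mp h))
  have := Fact.mk hp
  exact ⟨p, hp, cor_ne_of_dvd hpd⟩

theorem cor_coprime {p r : ℕ} [Fact p.Prime] [Fact r.Prime] (h : p ≠ r) {X Y : Subgroup Γ}
    (hX : IsPGroup p X) (hY : IsPGroup r Y) : (Nat.card X).Coprime (Nat.card Y) :=
  IsPGroup.coprime_card_of_ne p r h X Y hX hY

/-- The covering condition of `L` with respect to `M`. -/
def Cov (M L : Subgroup Γ) : Prop :=
  ∀ v : ℕ, v.Prime → Cor v M ⊓ centralizer ((Cor v M ⊓ L : Subgroup Γ) : Set Γ) ≤ L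

theorem cov_of_ftg_le {L : Subgroup Γ} (h : Ftg M ≤ L) : Cov M L := fun v hv =>
  haveI := Fact.mk hv
  inf_le_left.trans ((cor_le_ftg v).trans h)

section

variable {L : Subgroup Γ}

theorem Cov.center_le (hC : Cov M L) {v : ℕ} (hv : v.Prime) :
    Cor v M ⊓ centralizer (Cor v M : Set Γ) ≤ Cor v M ⊓ L :=
  le_inf inf_le_left ((inf_le_inf_left _ (centralizer_le
    (show ((Cor v M ⊓ L : Subgroup Γ) : Set Γ) ⊆ Cor v M from fun _ h => h.1))).trans (hC v hv))

theorem Cov.zc_le (hC : Cov M L) : Zc M ≤ L := by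
  refine Coprime.le_of_forall_sylow_le fun p hp => ?_
  have := Fact.mk hp
  obtain ⟨P⟩ : Nonempty (Sylow p (Zc M)) := inferInstance
  refine ⟨P, ?_⟩
  have hP : (P : Subgroup (Zc M)).map (Zc M).subtype ≤ Zc M := map_subtype_le _
  have h1 := le_cor_of_le_ftg (K := M) (P.isPGroup'.map _) (hP.trans inf_le_left)
  exact (le_inf h1 (hP.trans (inf_le_right.trans (centralizer_le (cor_le_ftg p))))).trans
    ((hC.center_le hp).trans inf_le_right)

theorem center_ne_bot {v : ℕ} [Fact v.Prime] {X : Subgroup Γ} (hX : IsPGroup v X) (h : X ≠ ⊥) :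
    X ⊓ centralizer (X : Set Γ) ≠ ⊥ := by
  intro hb
  by_cases hab : ⁅X, X⁆ = ⊥
  · exact h (eq_bot_iff.mpr fun x hx =>
      hb ▸ (⟨hx, commutator_eq_bot_iff_le_centralizer.mp hab hx⟩ : x ∈ X ⊓ centralizer (X : Set Γ)))
  · exact exists_lcs_centralized hX.isNilpotent hab
      (eq_bot_iff.mpr (hb ▸ inf_le_inf_right _ (commutator_le_self X)))

theorem commute_inter {s v : ℕ} [Fact s.Prime] [Fact v.Prime] (hvs : v ≠ s) :
    ∀ x ∈ Cor s L ⊓ M, ∀ y ∈ Cor v M ⊓ L, Commute x y := by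
  intro x hx y hy
  have hd : Cor s L ⊓ Cor v M = ⊥ :=
    Coprime.inf_eq_bot_of_coprime (cor_coprime (Ne.symm hvs) (cor_isPGroup s) (cor_isPGroup v))
  refine commutatorElement_eq_one_iff_commute.mp (mem_bot.mp (hd ▸ ⟨?_, ?_⟩))
  · have h := (mem_normalizer_iff.mp ((le_normalizer.trans (normalizer_le_cor s)) hy.2) x⁻¹).mp
      (inv_mem (show x ∈ Cor s L from hx.1))
    rw [commutatorElement_def, show x * y * x⁻¹ * y⁻¹ = x * (y * x⁻¹ * y⁻¹) by group]
    exact (Cor s L).mul_mem hx.1 h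
  · have h := (mem_normalizer_iff.mp ((le_normalizer.trans (normalizer_le_cor v)) hx.2) y).mp hy.1
    rw [commutatorElement_def]
    exact (Cor v M).mul_mem h ((Cor v M).inv_mem hy.1)

theorem Cov.inter_le (hC : Cov M L) (S : Min q A G) (hM : IsMax A G M) {s : ℕ}
    [Fact s.Prime] : Cor s L ⊓ M ≤ Cor s M := by
  refine (hM.setup S).absorb (hM.solvable S) inf_le_right ((cor_isPGroup s).to_le inf_le_left)
    fun v hv hvs x hx y hy => ?_
  have := Fact.mk hv
  set P := Cor v M ⊓ L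
  set X := Cor s L ⊓ M
  have hPX : ∀ x ∈ X, ∀ y ∈ P, Commute x y := commute_inter hvs
  have h := Coprime.thompson_pxq (p := v) (P := P) (Q := X) (U := Cor v M)
    ((cor_isPGroup v).to_le inf_le_left) (by
      obtain ⟨i, hi⟩ := IsPGroup.iff_card.mp ((cor_isPGroup s).to_le (inf_le_left : X ≤ Cor s L))
      rw [hi]
      exact ((Nat.coprime_primes Fact.out hv).mpr (Ne.symm hvs)).pow_left i)
    (cor_isPGroup v)
    (fun y hy => mem_centralizer_iff.mpr fun x hx => (hPX x hx y hy).eq)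
    (inf_le_left.trans le_normalizer)
    (inf_le_right.trans (le_normalizer.trans (normalizer_le_cor v)))
    (fun z hz => mem_centralizer_iff.mpr fun x hx => (hPX x hx z ⟨hz.1, hC v hv hz⟩).eq)
  exact (mem_centralizer_iff.mp (h hx) y hy).symm

theorem Cov.cor_le_of_ne (hC : Cov M L) (S : Min q A G) (hM : IsMax A G M) (hL : IsMax A G L)
    {s : ℕ} [hs : Fact s.Prime] (hne : Cor s M ≠ ⊥)
    (hsyl : ∃ P : Subgroup Γ, P ≤ G ∧ A ≤ normalizer (P : Set Γ) ∧ IsPGroup s P ∧
      ∀ U : Subgroup Γ, U ≤ G → A ≤ normalizer (U : Set Γ) → IsPGroup s U → U ≤ P) :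
    Cor s L ≤ Cor s M := by
  have hAs : A ≤ normalizer (Cor s M : Set Γ) := hM.1.2.2.trans (normalizer_le_cor s)
  have hLG : Cor s L ≤ G := (cor_le s).trans hL.1.1
  have hPs := hC.center_le hs.out
  set Z := Cor s M ⊓ centralizer (Cor s M : Set Γ)
  have hZne : Z ≠ ⊥ := center_ne_bot (cor_isPGroup s) hne
  have hMn : M ≤ normalizer (Cor s M : Set Γ) := le_normalizer.trans (normalizer_le_cor s)
  have hZM : ∀ x ∈ G, x ∈ centralizer (Z : Set Γ) → x ∈ M := fun x hx hc =>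
    hM.mem_of_commute S (inf_le_left.trans (cor_le s)) hZne
      (Coprime.le_normalizer_inf hAs (le_normalizer_cent hAs))
      (Coprime.le_normalizer_inf hMn (le_normalizer_cent hMn)) hx hc
  by_cases hex : ∃ v : ℕ, v.Prime ∧ v ≠ s ∧ Cor v M ≠ ⊥
  · obtain ⟨v, hv, hvs, hvne⟩ := hex
    have := Fact.mk hv
    have hWv : Cor v M ⊓ L ≤ centralizer (Cor s L : Set Γ) := by
      refine Coprime.thompson_pxq (p := s) (P := Cor s M ⊓ L) ((cor_isPGroup s).to_le inf_le_left) ?_
        (cor_isPGroup s) ?_ (inf_le_right.trans (le_normalizer.trans (normalizer_le_cor s)))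
        (inf_le_right.trans (le_normalizer.trans (normalizer_le_cor s))) ?_
      · obtain ⟨i, hi⟩ := IsPGroup.iff_card.mp ((cor_isPGroup v).to_le (inf_le_left : Cor v M ⊓ L ≤ Cor v M))
        rw [hi]
        exact ((Nat.coprime_primes hv Fact.out).mpr hvs).pow_left i
      · exact fun y hy => mem_centralizer_iff.mpr fun x hx => (cor_commute hvs x hx.1 y hy.1).eq
      · intro z hz
        have hzM : z ∈ M := hZM z (hLG hz.1) (centralizer_le (hPs : Z ≤ _) hz.2)
        exact mem_centralizer_iff.mpr fun x hx => (commute_inter hvs z ⟨hz.1, hzM⟩ x hx).eq.symm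
    intro w hw
    refine hC.inter_le S hM ⟨hw, ?_⟩
    have hPv := hC.center_le hv
    have hAv : A ≤ normalizer (Cor v M : Set Γ) := hM.1.2.2.trans (normalizer_le_cor v)
    have hMv : M ≤ normalizer (Cor v M : Set Γ) := le_normalizer.trans (normalizer_le_cor v)
    exact hM.mem_of_commute S (inf_le_left.trans (cor_le v)) (center_ne_bot (cor_isPGroup v) hvne)
      (Coprime.le_normalizer_inf hAv (le_normalizer_cent hAv))
      (Coprime.le_normalizer_inf hMv (le_normalizer_cent hMv)) (hLG hw)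
      (Subgroup.le_centralizer_iff.mp (hPv.trans hWv) hw)
  · push Not at hex
    obtain ⟨P, hPG, hPA, hPp, hPmax⟩ := hsyl
    have hle : Cor s M ≤ P := hPmax _ ((cor_le s).trans hM.1.1) hAs (cor_isPGroup s)
    have hn := hM.norm_eq S (cor_le s) hne hAs hMn
    have heq : Cor s M = P := by
      refine eq_of_inf_normalizer_le hPp.isNilpotent hle ?_
      refine (hM.setup S).absorb (hM.solvable S) ?_ (hPp.to_le inf_le_left) ?_
      · exact fun x hx => hn.le ⟨hPG hx.1, hx.2⟩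
      · intro v hv hvs x _ y hy
        rw [hex v hv hvs, mem_bot] at hy
        exact hy ▸ Commute.one_right x
    exact heq ▸ hPmax _ hLG (hL.1.2.2.trans (normalizer_le_cor s)) (cor_isPGroup s)

theorem Cov.fpf (hC : Cov M L) (S : Min q A G) (hM : IsMax A G M) (hL : IsMax A G L) {s : ℕ}
    [Fact s.Prime] (hs : Cor s M = ⊥) : Cor s L ⊓ M = ⊥ ∧
      ∀ v : ℕ, v.Prime → Cor v M ≠ ⊥ →
        Cor s L ⊓ centralizer ((Cor v M ⊓ centralizer (Cor v M : Set Γ) : Subgroup Γ) : Set Γ) = ⊥ := by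
  have h1 : Cor s L ⊓ M = ⊥ := eq_bot_iff.mpr (hs ▸ hC.inter_le S hM)
  refine ⟨h1, fun v hv hne => eq_bot_iff.mpr fun x hx => h1 ▸ ⟨hx.1, ?_⟩⟩
  have := Fact.mk hv
  have hAv : A ≤ normalizer (Cor v M : Set Γ) := hM.1.2.2.trans (normalizer_le_cor v)
  have hMv : M ≤ normalizer (Cor v M : Set Γ) := le_normalizer.trans (normalizer_le_cor v)
  exact hM.mem_of_commute S (inf_le_left.trans (cor_le v)) (center_ne_bot (cor_isPGroup v) hne)
    (Coprime.le_normalizer_inf hAv (le_normalizer_cent hAv))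
    (Coprime.le_normalizer_inf hMv (le_normalizer_cent hMv)) ((cor_le s).trans hL.1.1 hx.1) hx.2

theorem Cov.eq_of_small (hC : Cov M L) (S : Min q A G) (hM : IsMax A G M) (hMn : ¬ Group.IsNilpotent M)
    (hL : IsMax A G L) (hsmall : ∀ s : ℕ, s.Prime → Cor s L ≤ Cor s M) : L = M := by
  obtain ⟨v₀, hv₀, hv₀ne⟩ := exists_cor_ne (hM.solvable S) (hM.ne_bot hMn)
  have := Fact.mk hv₀
  have hL1 : L ≠ ⊥ := fun h => center_ne_bot (cor_isPGroup v₀) hv₀ne
    (le_bot_iff.mp (((hC.center_le hv₀).trans inf_le_right).trans h.le))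
  obtain ⟨s₀, hs₀, hs₀ne⟩ := exists_cor_ne (hL.solvable S) hL1
  have := Fact.mk hs₀
  have hFL : Ftg L ≤ Ftg M ⊓ L := le_inf
    (ftg_le_of_cor fun s hs => haveI := Fact.mk hs; (hsmall s hs).trans (cor_le_ftg s)) ftg_le
  have heq : Ftg L = Ftg M ⊓ L := le_antisymm hFL
    (le_ftg inf_le_right (normal_of_derived_le
      (((hL.setup S).derived_le_ftg (hL.solvable S)).trans hFL) inf_le_right)
      (Core.isNilpotent_mono ftg_isNilpotent inf_le_left))
  have hFne : Ftg L ≠ ⊥ := fun h => hs₀ne (le_bot_iff.mp ((cor_le_ftg s₀).trans h.le))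
  have hAF : A ≤ normalizer (Ftg L : Set Γ) := hL.1.2.2.trans normalizer_le_ftg
  have hLn : L ≤ normalizer (Ftg L : Set Γ) := le_normalizer.trans normalizer_le_ftg
  have hN := hL.norm_eq S ftg_le hFne hAF hLn
  have h2 : Ftg M ⊓ L = Ftg M := by
    refine eq_of_inf_normalizer_le ftg_isNilpotent inf_le_left fun x hx => ⟨hx.1, hN.le ⟨?_, ?_⟩⟩
    · exact ((ftg_le.trans hM.1.1)) hx.1
    · rw [heq]; exact hx.2
  have hMne : Ftg M ≠ ⊥ := fun h => hv₀ne (le_bot_iff.mp ((cor_le_ftg v₀).trans h.le))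
  rw [← hN, heq, h2]
  exact hM.norm_eq S ftg_le hMne (hM.1.2.2.trans normalizer_le_ftg)
    (le_normalizer.trans normalizer_le_ftg)

/-- If a central piece of `F(M)` is fixed-point free on `Z(O_s(L))`, then `L` is in the class. -/
theorem Cov.inClass (hC : Cov M L) (S : Min q A G) (hM : IsMax A G M) (hMn : ¬ Group.IsNilpotent M)
    (hL : IsMax A G L) {s : ℕ} [Fact s.Prime] (hs : Cor s M = ⊥) (hW : Cor s L ≠ ⊥) :
    InClass A G L := by
  obtain ⟨v, hv, hvne⟩ := exists_cor_ne (hM.solvable S) (hM.ne_bot hMn)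
  have := Fact.mk hv
  have hvs : v ≠ s := fun h => hvne (h ▸ hs)
  obtain ⟨hWM, hfix⟩ := hC.fpf S hM hL hs
  have hfix := hfix v hv hvne
  set Z := Cor v M ⊓ centralizer (Cor v M : Set Γ)
  set V := Cor s L ⊓ centralizer (Cor s L : Set Γ)
  have hZL : Z ≤ L := (hC.center_le hv).trans inf_le_right
  have hV1 : V ≠ ⊥ := center_ne_bot (cor_isPGroup s) hW
  have hVab : ∀ x ∈ V, ∀ y ∈ V, Commute x y := fun x hx y hy =>
    (mem_centralizer_iff.mp hx.2 y hy.1).symm
  have hVfix : ∀ x ∈ V, (∀ z ∈ Z, Commute x z) → x = 1 := fun x hx h =>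
    mem_bot.mp (hfix ▸ ⟨hx.1, mem_centralizer_iff.mpr fun z hz => (h z hz).eq.symm⟩)
  have hZG : Z ≤ G := hZL.trans hL.1.1
  have hAv : A ≤ normalizer (Cor v M : Set Γ) := hM.1.2.2.trans (normalizer_le_cor v)
  have hAZ : A ≤ normalizer (Z : Set Γ) := Coprime.le_normalizer_inf hAv (le_normalizer_cent hAv)
  have hZnV : L ≤ normalizer (V : Set Γ) := Coprime.le_normalizer_inf
    (le_normalizer.trans (normalizer_le_cor s))
    (le_normalizer_cent (le_normalizer.trans (normalizer_le_cor s)))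
  have hAV : A ≤ normalizer (V : Set Γ) := Coprime.le_normalizer_inf
    (hL.1.2.2.trans (normalizer_le_cor s)) (le_normalizer_cent (hL.1.2.2.trans (normalizer_le_cor s)))
  have hVZc : V ≤ Zc L := by
    refine le_inf (inf_le_left.trans (cor_le_ftg s)) (Subgroup.le_centralizer_iff.mp ?_)
    refine ftg_le_of_cor fun r hr => ?_
    have := Fact.mk hr
    intro y hy
    refine mem_centralizer_iff.mpr fun x hx => ?_
    by_cases hrs : r = s
    · subst hrs
      exact (mem_centralizer_iff.mp hx.2 y hy).symm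
    · exact (cor_commute (Ne.symm hrs) x hx.1 y hy).eq
  refine ⟨hL, fun hnil => ?_, ?_⟩
  · obtain ⟨w, hw, hw1⟩ : ∃ w ∈ V, w ≠ 1 := by
      by_contra h
      push Not at h
      exact hV1 (eq_bot_iff.mpr fun x hx => mem_bot.mpr (h x hx))
    exact hw1 (hVfix w hw fun z hz => (commute_of_isPGroup hnil hvs ((cor_isPGroup v).to_le inf_le_left)
      ((cor_isPGroup s).to_le inf_le_left) hZL (inf_le_left.trans (cor_le s)) z hz w hw).symm)
  obtain ⟨g, hg, hg1, z, hz, hzg, w, hw, hwz⟩ : ∃ g ∈ A, g ≠ 1 ∧ ∃ z ∈ Z, Commute z g ∧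
      ∃ w ∈ V, ¬ Commute w z := by
    by_contra h
    push Not at h
    refine hV1 (eq_bot_iff.mpr fun x hx => mem_bot.mpr (hVfix x hx fun z hz => ?_))
    exact (mem_cent.mp (S.toBase.generate (W := centralizer {x}) hZG hAZ
      (fun a ha ha1 y hy hya => mem_cent.mpr (h a ha ha1 y hy hya x hx).symm) hz)).symm
  set X := Z ⊓ centralizer ({g} : Set Γ)
  have hXab : ∀ x ∈ X, ∀ y ∈ X, Commute x y := fun x hx y hy =>
    (mem_centralizer_iff.mp hx.1.2 y hy.1.1).symm
  have hAX : A ≤ normalizer (X : Set Γ) :=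
    Coprime.le_normalizer_inf hAZ (le_normalizer_cent_single S.toBase hg)
  have hXV : X ≤ normalizer (V : Set Γ) := inf_le_left.trans (hZL.trans hZnV)
  have hcop : (Nat.card X).Coprime (Nat.card V) :=
    cor_coprime hvs ((cor_isPGroup v).to_le (inf_le_left.trans inf_le_left))
      ((cor_isPGroup s).to_le inf_le_left)
  have hVc : IsMulCommutative V := ⟨⟨fun a b => Subtype.ext (hVab _ a.2 _ b.2).eq⟩⟩
  have hdec := Coprime.abelian_decomposition hXV hcop
  set U := ⁅V, X⁆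
  have hUV : U ≤ V := Coprime.commutator_le_of_le_normalizer hXV
  have hline : ∀ h ∈ A, h ∉ zpowers g → ∃ u ∈ Zc L, u ≠ 1 ∧ Commute u h := by
    intro h hh hne
    by_contra hno
    push Not at hno
    have hU : U ≤ ⊥ := frobenius_subgroup (fun x hx y hy => hVab x (hUV hx) y (hUV hy)) S.hq
      (S.expA h hh) (
        FixedPointFree.le_normalizer_commutator' hAV hAX hh)
      (le_sup_right.trans Coprime.le_normalizer_commutator)
      (fun x hx => (mem_normalizer_iff.mp (hAX hh) x).mp hx)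
      (fun x hx hxh => S.fpf_pair hg hg1 hh hne (hZG hx.1) (mem_cent.mp hx.2) hxh)
      (hcop.coprime_dvd_right (card_dvd_of_le hUV))
      (fun u hu hux => mem_bot.mp (hdec.1 ▸
        ⟨⟨hUV hu, mem_centralizer_iff.mpr fun x hx => (hux x hx).eq.symm⟩, hu⟩))
      (fun x _ u hu huh => by
        rw [show u = 1 from by
          by_contra h1
          exact hno u (hVZc (hUV hu)) h1 huh]
        simp)
    apply hwz
    have hwf : w ∈ V ⊓ centralizer (X : Set Γ) := by
      have hw' := hdec.2.ge hw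
      rw [le_bot_iff.mp hU, sup_bot_eq] at hw'
      exact hw'
    exact (mem_centralizer_iff.mp hwf.2 z ⟨hz, mem_cent.mpr hzg⟩).symm
  obtain ⟨h, hh, h', hh', hne, hne', hne''⟩ := S.toBase.exists_pair hg hg1
  exact ⟨h, hh, h', hh', fun h0 => hne (h0 ▸ one_mem _), hne'', hline h hh hne, hline h' hh' hne'⟩

/-- Counting: `L` in the class with `F(M) ≤ L` has the larger Fitting subgroup. -/
theorem card_ftg_lt (S : Min q A G) (hM : IsMax A G M) (hL : IsMax A G L) (hFL : Ftg M ≤ L)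
    (hgood : ∀ s : ℕ, s.Prime → Cor s M ≠ ⊥ → Cor s L ≤ Cor s M)
    {s₀ : ℕ} [Fact s₀.Prime] (hs₀ : Cor s₀ M = ⊥) (hW : Cor s₀ L ≠ ⊥) :
    Nat.card (Ftg M) < Nat.card (Ftg L) := by
  set W := ⨆ s : {s : Nat.Primes // Cor (s : ℕ) M = ⊥}, Cor (s : ℕ) L
  have hWF : W ≤ Ftg L := iSup_le fun s => haveI := Fact.mk s.1.2; cor_le_ftg _
  have hW1 : W ≠ ⊥ := fun h => hW (le_bot_iff.mp ((le_iSup
    (fun s : {s : Nat.Primes // Cor (s : ℕ) M = ⊥} => Cor (s : ℕ) L) ⟨⟨s₀, Fact.out⟩, hs₀⟩).trans h.le))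
  have hLW : L ≤ normalizer (W : Set Γ) := by
    intro x hx
    apply Coprime.mem_normalizer_of_conj_smul_eq
    simp only [W, Coprime.conj_smul_eq_map, Subgroup.map_iSup]
    refine iSup_congr fun s => ?_
    rw [← Coprime.conj_smul_eq_map]
    exact Coprime.conj_smul_eq_self_of_mem_normalizer ((le_normalizer.trans (normalizer_le_cor _)) hx)
  have hcopW : (Nat.card (Ftg M)).Coprime (Nat.card W) := by
    refine Nat.coprime_of_dvd fun p hp hpF hpW => ?_
    have := Fact.mk hp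
    have hne := cor_ne_of_dvd hpF
    have hle : W ≤ (pPrimeCore p L).map L.subtype := iSup_le fun s => by
      have := Fact.mk s.1.2
      refine map_mono (Core.le_pPrimeCore ?_)
      obtain ⟨n, hn⟩ := IsPGroup.iff_card.mp (Core.pCore_isPGroup (p := (s : ℕ)) (G := L))
      rw [hn]
      exact ((Nat.coprime_primes s.1.2 hp).mpr fun h => hne (h ▸ s.2)).pow_left n
    have h2 := Nat.Coprime.coprime_dvd_left ((card_dvd_of_le hle).trans
      (card_map_of_injective L.subtype_injective).dvd)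
      (Core.coprime_card_pPrimeCore (p := p) (G := L))
    exact (hp.coprime_iff_not_dvd.mp h2.symm) hpW
  set F := Ftg M
  have hFW : F ≤ normalizer (W : Set Γ) := hFL.trans hLW
  set X := Ftg L ⊓ F
  have hXW : X ≤ normalizer (W : Set Γ) := inf_le_right.trans hFW
  have hd : W ⊓ X = ⊥ :=
    Coprime.inf_eq_bot_of_coprime (hcopW.symm.coprime_dvd_right (card_dvd_of_le inf_le_right))
  set N0 := F ⊓ centralizer (W : Set Γ)
  have hN0 : N0 ≤ X := by
    refine le_inf (Coprime.le_of_forall_sylow_le fun p hp => ?_) inf_le_left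
    have := Fact.mk hp
    obtain ⟨P⟩ : Nonempty (Sylow p N0) := inferInstance
    refine ⟨P, ?_⟩
    set Q := (P : Subgroup N0).map N0.subtype
    have hQ : Q ≤ N0 := map_subtype_le _
    have hQp : IsPGroup p Q := P.isPGroup'.map _
    have hQM : Q ≤ Cor p M := le_cor_of_le_ftg hQp (hQ.trans inf_le_left)
    refine ((hL.setup S).absorb (hL.solvable S) ((hQ.trans inf_le_left).trans hFL) hQp
      fun r hr hrp x hx y hy => ?_).trans (cor_le_ftg p)
    have := Fact.mk hr
    by_cases hrM : Cor r M = ⊥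
    · exact (mem_centralizer_iff.mp (hQ hx).2 y (le_iSup
        (fun s : {s : Nat.Primes // Cor (s : ℕ) M = ⊥} => Cor (s : ℕ) L) ⟨⟨r, hr⟩, hrM⟩ hy)).symm
    · exact cor_commute (Ne.symm hrp) x (hQM hx) y (hgood r hr hrM hy)
  have hder : ⁅F, F⁆ ≤ centralizer (W : Set Γ) := by
    have h1 : ⁅F, F⁆ ≤ X := le_inf
      ((commutator_mono hFL hFL).trans ((hL.setup S).derived_le_ftg (hL.solvable S)))
      (commutator_le_self F)
    refine h1.trans fun x hx => mem_centralizer_iff.mpr fun w hw => ?_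
    refine (congrArg Subtype.val (Char.commute_of_nilpotent_coprime (hnil := ftg_isNilpotent (K := L))
      (a := (⟨x, hx.1⟩ : Ftg L)) (b := ⟨w, hWF hw⟩) ?_).eq).symm
    rw [Subgroup.orderOf_mk, Subgroup.orderOf_mk]
    exact (hcopW.coprime_dvd_left (Subgroup.orderOf_dvd_natCard F hx.2)).coprime_dvd_right
      (Subgroup.orderOf_dvd_natCard W hw)
  have hlt := relIndex_lt_card (Core.isNilpotent_mono ftg_isNilpotent hWF) hW1 hFW hcopW
    (Core.isSolvable_mono (hM.solvable S) ftg_le) hder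
  have h1 : Nat.card N0 * N0.relIndex F = Nat.card F := by
    rw [relIndex, ← Coprime.card_subgroupOf (inf_le_left : N0 ≤ F)]
    exact card_mul_index _
  have h2 : Nat.card W * Nat.card X ≤ Nat.card (Ftg L) := by
    rw [← Coprime.card_sup_eq_mul hXW hd]
    exact Subgroup.card_le_of_le (sup_le hWF inf_le_left)
  calc Nat.card F = Nat.card N0 * N0.relIndex F := h1.symm
    _ < Nat.card N0 * Nat.card W := Nat.mul_lt_mul_of_pos_left hlt Nat.card_pos
    _ ≤ Nat.card X * Nat.card W := Nat.mul_le_mul_right _ (Subgroup.card_le_of_le hN0)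
    _ ≤ Nat.card (Ftg L) := (mul_comm _ _).trans_le h2

end

variable {L : Subgroup Γ}

/-- `M` is the only maximal invariant subgroup containing `F(M)`. -/
theorem Good.eq_of_ftg_le (hG : Good A G M) (S : Min q A G)
    (hsyl : ∀ s : ℕ, s.Prime → ∃ P : Subgroup Γ, P ≤ G ∧ A ≤ normalizer (P : Set Γ) ∧ IsPGroup s P ∧
      ∀ U : Subgroup Γ, U ≤ G → A ≤ normalizer (U : Set Γ) → IsPGroup s U → U ≤ P)
    (hL : IsMax A G L) (hFL : Ftg M ≤ L) : L = M := by
  have hC : Cov M L := cov_of_ftg_le hFL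
  have hgood : ∀ s : ℕ, s.Prime → Cor s M ≠ ⊥ → Cor s L ≤ Cor s M := fun s hs hne =>
    haveI := Fact.mk hs
    hC.cor_le_of_ne S hG.1 hL hne (hsyl s hs)
  refine hC.eq_of_small S hG.1 hG.2.1 hL fun s hs => ?_
  by_cases hne : Cor s M = ⊥
  · have := Fact.mk hs
    by_contra h
    have hW : Cor s L ≠ ⊥ := fun h' => h (h'.le.trans bot_le)
    have hcl := hC.inClass S hG.1 hG.2.1 hL hne hW
    rcases hG.2.2 with h0 | ⟨-, hmax⟩
    · exact h0 L hcl
    · exact absurd (card_ftg_lt S hG.1 hL hFL hgood hne hW) (not_lt.mpr (hmax L hcl))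
  · exact hgood s hs hne

/-- A maximal invariant subgroup covering `M` equals `M`. -/
theorem Good.eq_of_cov (hG : Good A G M) (S : Min q A G)
    (hsyl : ∀ s : ℕ, s.Prime → ∃ P : Subgroup Γ, P ≤ G ∧ A ≤ normalizer (P : Set Γ) ∧ IsPGroup s P ∧
      ∀ U : Subgroup Γ, U ≤ G → A ≤ normalizer (U : Set Γ) → IsPGroup s U → U ≤ P)
    (hL : IsMax A G L) (hC : Cov M L) : L = M := by
  refine hC.eq_of_small S hG.1 hG.2.1 hL fun s hs => ?_
  have := Fact.mk hs
  by_cases hne : Cor s M = ⊥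
  · by_contra h
    have hW : Cor s L ≠ ⊥ := fun h' => h (h'.le.trans bot_le)
    rcases hG.2.2 with h0 | ⟨⟨-, -, g, hg, k, hk, hg1, hkg, ⟨x, hx, hx1, hxg⟩, ⟨y, hy, hy1, hyk⟩⟩, -⟩
    · exact h0 L (hC.inClass S hG.1 hG.2.1 hL hne hW)
    -- two lines of `Z(F(M))`
    have hWM := (hC.fpf S hG.1 hL hne).1
    have hM := hG.1
    have hAZ : A ≤ normalizer (Zc M : Set Γ) :=
      Coprime.le_normalizer_inf (hM.1.2.2.trans normalizer_le_ftg)
        (le_normalizer_cent (hM.1.2.2.trans normalizer_le_ftg))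
    have hkill : ∀ a ∈ A, ∀ x ∈ Zc M, x ≠ 1 → Commute x a →
        Cor s L ⊓ centralizer ((Zc M ⊓ centralizer {a} : Subgroup Γ) : Set Γ) = ⊥ := by
      intro a ha x hx hx1 hxa
      set X := Zc M ⊓ centralizer ({a} : Set Γ)
      have hX1 : X ≠ ⊥ := fun h => hx1 (mem_bot.mp (h ▸ ⟨hx, mem_cent.mpr hxa⟩))
      have hXM : X ≤ M := inf_le_left.trans (inf_le_left.trans ftg_le)
      have hAX : A ≤ normalizer (X : Set Γ) :=
        Coprime.le_normalizer_inf hAZ (le_normalizer_cent_single S.toBase ha)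
      obtain ⟨L', hL', hle⟩ := exists_isMax (A := A) (inf_le_left : G ⊓ centralizer (X : Set Γ) ≤ G)
        (S.cent_ne hM hXM hX1 hAX) (Coprime.le_normalizer_inf S.norm (le_normalizer_cent hAX))
      have hFX : Ftg M ≤ G ⊓ centralizer (X : Set Γ) := le_inf (ftg_le.trans hM.1.1)
        (Subgroup.le_centralizer_iff.mp (inf_le_left.trans inf_le_right))
      have hLM := hG.eq_of_ftg_le S hsyl hL' (hFX.trans hle)
      exact eq_bot_iff.mpr fun w hw =>
        hWM ▸ ⟨hw.1, hLM ▸ hle ⟨(cor_le s).trans hL.1.1 hw.1, hw.2⟩⟩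
    have hk1 : k ≠ 1 := fun h0 => hkg (h0 ▸ one_mem _)
    set V := Cor s L ⊓ centralizer (Cor s L : Set Γ)
    have hV1 : V ≠ ⊥ := center_ne_bot (cor_isPGroup s) hW
    set X := Zc M ⊓ centralizer ({g} : Set Γ)
    have hXL : X ≤ L := inf_le_left.trans hC.zc_le
    have hLV : L ≤ normalizer (V : Set Γ) := Coprime.le_normalizer_inf
      (le_normalizer.trans (normalizer_le_cor s))
      (le_normalizer_cent (le_normalizer.trans (normalizer_le_cor s)))
    have hkV : k ∈ normalizer (V : Set Γ) := (Coprime.le_normalizer_inf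
      (hL.1.2.2.trans (normalizer_le_cor s))
      (le_normalizer_cent (hL.1.2.2.trans (normalizer_le_cor s)))) hk
    have hcop : (Nat.card X).Coprime (Nat.card V) := by
      obtain ⟨n, hn⟩ := IsPGroup.iff_card.mp ((cor_isPGroup s).to_le (inf_le_left : V ≤ Cor s L))
      rw [hn]
      refine Nat.Coprime.pow_right n (Nat.Coprime.symm ((Fact.out : s.Prime).coprime_iff_not_dvd.mpr ?_))
      intro hd
      exact cor_ne_of_dvd (hd.trans (card_dvd_of_le ((inf_le_left : X ≤ Zc M).trans inf_le_left))) hne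
    have hsub : ∀ z ∈ Zc M, Commute z k → V ≤ centralizer {z} := fun z hz hzk =>
      frobenius_subgroup (fun a ha b hb => (mem_centralizer_iff.mp ha.2 b hb.1).symm) S.hq
        (S.expA k hk) hkV (hXL.trans hLV)
        (fun w hw => (mem_normalizer_iff.mp ((Coprime.le_normalizer_inf hAZ
          (le_normalizer_cent_single S.toBase hg)) hk) w).mp hw)
        (fun w hw hwk => S.fpf_pair hg hg1 hk hkg ((hXL.trans hL.1.1) hw) (mem_cent.mp hw.2) hwk)
        hcop
        (fun v hv hvx => mem_bot.mp (hkill g hg x hx hx1 hxg ▸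
          ⟨hv.1, mem_centralizer_iff.mpr fun w hw => (hvx w hw).eq.symm⟩))
        (fun w hw v hv hvk => mem_cent.mpr (by
          have hwz : Commute w z := (mem_centralizer_iff.mp hw.1.2 z hz.1).symm
          have hvz : Commute v z := S.ab k hk hk1 v ((inf_le_left.trans ((cor_le s).trans hL.1.1)) hv)
            z ((ftg_le.trans hM.1.1) hz.1) hvk hzk
          exact (hwz.mul_left hvz).mul_left hwz.inv_left))
    refine hV1 (eq_bot_iff.mpr fun v hv => ?_)
    rw [← hkill k hk y hy hy1 hyk]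
    exact ⟨hv.1, mem_centralizer_iff.mpr fun z hz =>
      ((mem_cent.mp (hsub z hz.1 (mem_cent.mp hz.2) hv)).eq).symm⟩
  · exact hC.cor_le_of_ne S hG.1 hL hne (hsyl s hs)

end Cfsg.Agent.AbCentFpf
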