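import Mathlib

/-!
Coprime modules for Frobenius-type operators: if `b` of prime order acts fixed point freely on `X`
and `X` has no fixed points on `U`, then `U` is spanned by the `X`-translates of the `b`-fixed
elements.
-/

set_option autoImplicit false

open Subgroup

namespace Cfsg.Agent.AbCentFpf

universe u v

variable {H : Type u} [Group H] {V : Type v} [CommGroup V] (ρ : H →* MulAut V)

/-- The fixed points of a subgroup of operators. -/
def fix (X : Subgroup H) : Subgroup V where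
  carrier := {v | ∀ x ∈ X, ρ x v = v}
  one_mem' := fun x _ => map_one (ρ x)
  mul_mem' := fun {a b} ha hb x hx => by rw [map_mul, ha x hx, hb x hx]
  inv_mem' := fun {a} ha x hx => by rw [map_inv, ha x hx]

theorem mem_fix {X : Subgroup H} {v : V} : v ∈ fix ρ X ↔ ∀ x ∈ X, ρ x v = v := Iff.rfl

theorem fix_anti {X Y : Subgroup H} (h : X ≤ Y) : fix ρ Y ≤ fix ρ X :=
  fun _ hv x hx => hv x (h hx)

/-- `[V, X]`. -/
def moved (X : Subgroup H) : Subgroup V := closure {w | ∃ x ∈ X, ∃ v, w = ρ x v / v}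

theorem div_mem_moved {X : Subgroup H} {x : H} (hx : x ∈ X) (v : V) : ρ x v / v ∈ moved ρ X :=
  subset_closure ⟨x, hx, v, rfl⟩

theorem rho_comm {x y : H} (h : Commute x y) (v : V) : ρ x (ρ y v) = ρ y (ρ x v) := by
  rw [← MulAut.mul_apply, ← map_mul, h.eq, map_mul, MulAut.mul_apply]

theorem rho_conj (h x : H) (v : V) : ρ (h * x * h⁻¹) (ρ h v) = ρ h (ρ x v) := by
  rw [← MulAut.mul_apply, ← map_mul, inv_mul_cancel_right, map_mul, MulAut.mul_apply]

theorem mem_fix_conj {X : Subgroup H} {h : H} (hh : ∀ x ∈ X, h⁻¹ * x * h ∈ X) {v : V}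
    (hv : v ∈ fix ρ X) : ρ h v ∈ fix ρ X := by
  intro x hx
  conv_rhs => rw [← hv _ (hh x hx)]
  rw [← rho_conj ρ h]
  simp [mul_assoc]

theorem map_moved {X : Subgroup H} {h : H} (hh : ∀ x ∈ X, h * x * h⁻¹ ∈ X) {w : V}
    (hw : w ∈ moved ρ X) : ρ h w ∈ moved ρ X := by
  have : moved ρ X ≤ (moved ρ X).comap (ρ h).toMonoidHom := by
    conv_lhs => rw [moved]
    rw [closure_le]
    rintro _ ⟨x, hx, v, rfl⟩
    rw [SetLike.mem_coe, mem_comap, MulEquiv.coe_toMonoidHom, map_div, ← rho_conj ρ h]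
    exact div_mem_moved ρ (hh x hx) _
  exact this hw

theorem mem_of_pow_card [Finite V] {R : Subgroup V} {v : V} {n : ℕ}
    (hn : n.Coprime (Nat.card V)) (h : v ^ n ∈ R) : v ∈ R := by
  have : v ^ n ∈ zpowers v := pow_mem (mem_zpowers v) n
  have ho : (orderOf v).Coprime n := (hn.symm.coprime_dvd_left (orderOf_dvd_natCard v))
  obtain ⟨m, hm⟩ := exists_pow_eq_self_of_coprime ho.symm
  rw [← hm]
  exact R.pow_mem h m

section decomp

variable (X : Subgroup H) [Fintype X]

theorem prod_mem_fix (v : V) : ∏ x : X, ρ (x : H) v ∈ fix ρ X := by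
  intro y hy
  rw [map_prod]
  refine Fintype.prod_equiv (Equiv.mulLeft (⟨y, hy⟩ : X)) _ _ fun x => ?_
  change ρ y (ρ (x : H) v) = ρ (y * (x : H)) v
  rw [map_mul, MulAut.mul_apply]

end decomp

theorem moved_inf_fix [Finite H] [Finite V] {X : Subgroup H}
    (hc : (Nat.card X).Coprime (Nat.card V)) : moved ρ X ⊓ fix ρ X = ⊥ := by
  let _ := Fintype.ofFinite X
  rw [eq_bot_iff]
  rintro v ⟨hv, hf⟩
  let N : V →* V :=
    { toFun := fun w => ∏ x : X, ρ (x : H) w
      map_one' := by simp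
      map_mul' := fun a b => by simp [Finset.prod_mul_distrib] }
  have hle : moved ρ X ≤ N.ker := by
    rw [moved, closure_le]
    rintro _ ⟨y, hy, w, rfl⟩
    rw [SetLike.mem_coe, MonoidHom.mem_ker, map_div, div_eq_one]
    change ∏ x : X, ρ (x : H) (ρ y w) = ∏ x : X, ρ (x : H) w
    refine Fintype.prod_equiv (Equiv.mulRight (⟨y, hy⟩ : X)) _ _ fun x => ?_
    change _ = ρ ((x : H) * y) w
    rw [map_mul, MulAut.mul_apply]
  have h1 : v ^ Fintype.card X = 1 := by
    rw [← MonoidHom.mem_ker.mp (hle hv)]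
    change _ = ∏ x : X, ρ (x : H) v
    rw [Finset.prod_congr rfl fun (x : X) _ => hf x x.2, Finset.prod_const, Finset.card_univ]
  refine mem_of_pow_card (R := ⊥) (n := Nat.card X) hc ?_
  rw [Nat.card_eq_fintype_card, h1]
  exact one_mem _

theorem moved_sup_fix [Finite H] [Finite V] {X : Subgroup H}
    (hc : (Nat.card X).Coprime (Nat.card V)) : moved ρ X ⊔ fix ρ X = ⊤ := by
  let _ := Fintype.ofFinite X
  refine eq_top_iff.mpr fun v _ => ?_
  refine mem_of_pow_card (n := Nat.card X) hc ?_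
  have h : v ^ Nat.card X = (∏ x : X, ρ (x : H) v / v)⁻¹ * ∏ x : X, ρ (x : H) v := by
    rw [Finset.prod_div_distrib, inv_div, div_mul_cancel, Finset.prod_const,
      Finset.card_univ, Nat.card_eq_fintype_card]
  rw [h]
  exact mul_mem_sup (inv_mem (Subgroup.prod_mem _ fun x _ => div_mem_moved ρ x.2 v)) (prod_mem_fix ρ X v)

/-- The Frobenius spanning lemma. -/
theorem le_of_frobenius [Finite H] [Finite V] {X : Subgroup H} {b : H} {q : ℕ} (hq : q.Prime)
    (hb : b ^ q = 1) (hbX : ∀ x ∈ X, b * x * b⁻¹ ∈ X) (hfpf : ∀ x ∈ X, Commute x b → x = 1)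
    (hcop : (Nat.card X).Coprime (Nat.card V)) {U R : Subgroup V}
    (hUX : ∀ x ∈ X, ∀ u ∈ U, ρ x u ∈ U) (hUb : ∀ u ∈ U, ρ b u ∈ U)
    (hU : U ⊓ fix ρ X = ⊥)
    (hR : ∀ x ∈ X, ∀ w ∈ U, ρ b w = w → ρ x w ∈ R) : U ≤ R := by
  classical
  let _ := Fintype.ofFinite X
  intro u hu
  refine mem_of_pow_card (n := Nat.card X) hcop ?_
  have hbi : ∀ i : ℕ, ∀ w ∈ U, ρ (b ^ i) w ∈ U := by
    intro i
    induction i with
    | zero => intro w hw; simpa using hw
    | succ i ih =>
      intro w hw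
      rw [pow_succ', map_mul, MulAut.mul_apply]
      exact hUb _ (ih w hw)
  have hbX' : ∀ i : ℕ, ∀ x ∈ X, b ^ i * x * (b ^ i)⁻¹ ∈ X := by
    intro i
    induction i with
    | zero => intro x hx; simpa using hx
    | succ i ih =>
      intro x hx
      have := hbX _ (ih x hx)
      simpa [pow_succ', mul_assoc] using this
  let Wx : X → V := fun x => ∏ i ∈ Finset.range q, ρ (b ^ i) (ρ (x : H)⁻¹ u)
  have hWU : ∀ x, Wx x ∈ U := fun x => Subgroup.prod_mem _ fun i _ => hbi i _ (hUX _ (inv_mem x.2) u hu)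
  have hWb : ∀ x, ρ b (Wx x) = Wx x := by
    intro x
    obtain ⟨m, hm⟩ := Nat.exists_eq_succ_of_ne_zero hq.ne_zero
    change ρ b (∏ i ∈ Finset.range q, _) = ∏ i ∈ Finset.range q, _
    rw [map_prod]
    simp only [← MulAut.mul_apply, ← map_mul, ← mul_assoc, ← pow_succ']
    subst hm
    conv_lhs => rw [Finset.prod_range_succ]
    conv_rhs => rw [Finset.prod_range_succ']
    rw [hb, pow_zero]
  have hzero : ∀ w ∈ U, ∏ x : X, ρ (x : H) w = 1 := fun w hw =>
    (Subgroup.mem_bot).mp (hU ▸ ⟨Subgroup.prod_mem _ fun x _ => hUX _ x.2 w hw, prod_mem_fix ρ X w⟩)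
  have hkey : ∀ i ∈ Finset.range q, i ≠ 0 →
      ∏ x : X, ρ (x : H) (ρ (b ^ i) (ρ (x : H)⁻¹ u)) = 1 := by
    intro i hi hi0
    let f : X → X := fun x =>
      ⟨(x : H) * (b ^ i * (x : H)⁻¹ * (b ^ i)⁻¹), X.mul_mem x.2 (hbX' i _ (inv_mem x.2))⟩
    have hf : Function.Injective f := by
      intro x y hxy
      have h := congrArg Subtype.val hxy
      simp only [f] at h
      have hc : Commute ((y : H)⁻¹ * x) (b ^ i) := by
        have h' : (x : H) * b ^ i * (x : H)⁻¹ = (y : H) * b ^ i * (y : H)⁻¹ := by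
          have := congrArg (· * b ^ i) h
          simpa [mul_assoc] using this
        have := congrArg (fun z => (y : H)⁻¹ * z * x) h'
        simpa [Commute, SemiconjBy, mul_assoc] using this
      have hcp : i.Coprime q := ((hq.coprime_iff_not_dvd).mpr fun hd =>
        absurd (Nat.le_of_dvd (Nat.pos_of_ne_zero hi0) hd) (not_le.mpr (Finset.mem_range.mp hi))).symm
      obtain ⟨m, hm⟩ := exists_pow_eq_self_of_coprime (x := b)
        (hcp.coprime_dvd_right (orderOf_dvd_of_pow_eq_one hb))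
      have hb' : Commute ((y : H)⁻¹ * x) b := hm ▸ hc.pow_right m
      exact Subtype.ext (inv_mul_eq_one.mp (hfpf _ (X.mul_mem (inv_mem y.2) x.2) hb')).symm
    have : ∀ x : X, ρ (x : H) (ρ (b ^ i) (ρ (x : H)⁻¹ u)) = ρ (f x : H) (ρ (b ^ i) u) := by
      intro x
      simp only [f, ← MulAut.mul_apply, ← map_mul]
      simp [mul_assoc]
    rw [Fintype.prod_congr _ _ this]
    rw [Fintype.prod_bijective f (Finite.injective_iff_bijective.mp hf)
      (fun x => ρ (f x : H) (ρ (b ^ i) u)) (fun x => ρ (x : H) (ρ (b ^ i) u)) fun x => rfl]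
    exact hzero _ (hbi i u hu)
  have hsum : ∏ x : X, ρ (x : H) (Wx x) = u ^ Nat.card X := by
    simp only [Wx, map_prod]
    rw [Finset.prod_comm, Finset.prod_eq_single 0 hkey
      (fun h => absurd (Finset.mem_range.mpr hq.pos) h)]
    simp only [pow_zero, map_one, MulAut.one_apply]
    rw [Finset.prod_congr rfl fun x _ => by
      rw [← MulAut.mul_apply, ← map_mul, mul_inv_cancel, map_one, MulAut.one_apply],
      Finset.prod_const, Finset.card_univ, Nat.card_eq_fintype_card]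
  rw [← hsum]
  exact Subgroup.prod_mem _ fun x _ => hR _ x.2 _ (hWU x) (hWb x)

/-- An operator commuting with `X` and fixing the `b`-fixed points acts trivially on `[V, X]`. -/
theorem eq_of_frobenius [Finite H] [Finite V] {X : Subgroup H} {b z : H} {q : ℕ} (hq : q.Prime)
    (hb : b ^ q = 1) (hbX : ∀ x ∈ X, b * x * b⁻¹ ∈ X) (hfpf : ∀ x ∈ X, Commute x b → x = 1)
    (hcop : (Nat.card X).Coprime (Nat.card V)) (hzX : ∀ x ∈ X, Commute x z)
    (hz : ∀ w, ρ b w = w → ρ z w = w) {u : V} (hu : u ∈ moved ρ X) : ρ z u = u := by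
  have h := le_of_frobenius ρ hq hb hbX hfpf hcop (U := moved ρ X) (R := fix ρ (zpowers z))
    (fun x hx u hu => map_moved ρ (fun y hy => X.mul_mem (X.mul_mem hx hy) (X.inv_mem hx)) hu)
    (fun u hu => map_moved ρ hbX hu) (moved_inf_fix ρ hcop) ?_ hu
  · exact h z (mem_zpowers z)
  · intro x hx w _ hw y hy
    obtain ⟨k, rfl⟩ := mem_zpowers_iff.mp hy
    have hzw : ρ (z ^ k) w = w := by
      rw [map_zpow]
      have := Equiv.Perm.zpow_apply_eq_self_of_apply_eq_self (f := MulAut.toPerm _ (ρ z)) (hz w hw) k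
      rwa [← map_zpow] at this
    rw [rho_comm ρ ((hzX x hx).zpow_right k).symm, hzw]

end Cfsg.Agent.AbCentFpf
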