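import Cfsg.Agent.AbCentFpf.Setup
import Cfsg.Agent.AbCentFpf.Module
import Cfsg.Agent.Core.Fitting
import Cfsg.Agent.Coprime.Basic

/-!
A solvable group with a `(q,q)`-group of operators with abelian centralisers and without common
fixed points acts as an abelian group on an irreducible module.
-/

set_option autoImplicit false

open Subgroup
open scoped commutatorElement

namespace Cfsg.Agent.AbCentFpf

universe u v

/-- An element normalising `K` normalises the image of a characteristic subgroup of `K`. -/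
theorem normalizer_le_map_char {Γ : Type u} [Group Γ] {K : Subgroup Γ} (C : Subgroup K)
    [hC : C.Characteristic] :
    normalizer (K : Set Γ) ≤ normalizer ((C.map K.subtype : Subgroup Γ) : Set Γ) := by
  have key : ∀ g ∈ normalizer (K : Set Γ), ∀ x ∈ C.map K.subtype, g * x * g⁻¹ ∈ C.map K.subtype := by
    rintro g hg _ ⟨x, hx, rfl⟩
    let e : K ≃* K := K.normalizerMonoidHom ⟨g, hg⟩
    have := (characteristic_iff_map_eq.mp hC e).le (mem_map_of_mem e.toMonoidHom hx)
    exact ⟨e x, this, rfl⟩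
  intro g hg
  rw [mem_normalizer_iff]
  refine fun x => ⟨key g hg x, fun hx => ?_⟩
  have := key g⁻¹ (inv_mem hg) _ hx
  simpa [mul_assoc] using this

theorem exists_lcs_centralized {Γ : Type u} [Group Γ] [Finite Γ] {Y : Subgroup Γ}
    (hY : Group.IsNilpotent Y) (hne : ⁅Y, Y⁆ ≠ ⊥) :
    ⁅Y, Y⁆ ⊓ centralizer (Y : Set Γ) ≠ ⊥ := by
  classical
  have hex : ∃ n, Y.lowerCentralSeries n = ⊥ := (isNilpotent_iff_lowerCentralSeries Y).mp hY
  have h1 : Y.lowerCentralSeries 1 = ⁅Y, Y⁆ := by
    rw [Subgroup.lowerCentralSeries_succ, Subgroup.lowerCentralSeries_zero]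
  have h2 : 1 < Nat.find hex := by
    by_contra h
    apply hne
    rw [← h1]
    exact eq_bot_iff.mpr ((Y.lowerCentralSeries_antitone (not_lt.mp h)).trans (Nat.find_spec hex).le)
  obtain ⟨m, hm⟩ := Nat.exists_eq_add_of_lt h2
  have hlast := Nat.find_spec hex
  have hprev := Nat.find_min hex (m := m + 1) (by omega)
  rw [show Nat.find hex = (m + 1) + 1 by omega, Subgroup.lowerCentralSeries_succ,
    commutator_eq_bot_iff_le_centralizer] at hlast
  refine fun h => hprev (eq_bot_iff.mpr (h ▸ le_inf ?_ hlast))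
  rw [← h1]
  exact Y.lowerCentralSeries_antitone (by omega)

theorem rho_cancel {H : Type u} [Group H] {V : Type v} [CommGroup V] (ρ : H →* MulAut V) (s : H)
    (v : V) : ρ s (ρ s⁻¹ v) = v := by
  rw [← MulAut.mul_apply, ← map_mul, mul_inv_cancel, map_one, MulAut.one_apply]

variable {H : Type u} [Group H] [Finite H] {V : Type v} [CommGroup V] [Finite V]

/-- The chief factor lemma. -/
theorem commute_of_irreducible {q p : ℕ} {A K : Subgroup H} (S : Setup q A K)
    (hs : Group.IsSolvable K) [Fact p.Prime] (hV : IsPGroup p V) (hV1 : Nontrivial V)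
    (ρ : H →* MulAut V) (hinj : ∀ x ∈ K, ρ x = 1 → x = 1)
    (hab : ∀ a ∈ A, a ≠ 1 → ∀ x ∈ K, Commute x a → ∀ v, ρ a v = v → ρ x v = v)
    (hirr : ∀ W : Subgroup V, (∀ x ∈ K, ∀ w ∈ W, ρ x w ∈ W) → (∀ a ∈ A, ∀ w ∈ W, ρ a w ∈ W) →
      W = ⊥ ∨ W = ⊤) :
    ∀ x ∈ K, ∀ y ∈ K, Commute x y := by
  have hVcard : p ∣ Nat.card V := by
    obtain ⟨n, hn, hc⟩ := hV.nontrivial_iff_card.mp hV1
    rw [hc]; exact dvd_pow_self p hn.ne'
  -- `O_p(K)` acts trivially
  have hcore : pCore p K = ⊥ := by
    set T : Subgroup H := (pCore p K).map K.subtype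
    have hTp : IsPGroup p T := Core.pCore_isPGroup.map _
    have hTK : T ≤ K := map_subtype_le _
    have hN : normalizer (K : Set H) ≤ normalizer (T : Set H) := normalizer_le_map_char _
    have hne : fix ρ T ≠ ⊥ := by
      let _ : MulAction T V := MulAction.compHom V ((MulAut.toPerm V).comp (ρ.comp T.subtype))
      obtain ⟨v, hv, hv1⟩ := hTp.exists_fixed_point_of_prime_dvd_card_of_fixed_point V hVcard
        (a := 1) (fun t => map_one (ρ (t : H)))
      intro h
      exact hv1.symm (Subgroup.mem_bot.mp (h ▸ (fun x hx => hv ⟨x, hx⟩ : v ∈ fix ρ T)))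
    have hinv : ∀ x ∈ normalizer (T : Set H), ∀ w ∈ fix ρ T, ρ x w ∈ fix ρ T := fun x hx w hw =>
      mem_fix_conj ρ (fun t ht => by
        simpa using (mem_normalizer_iff''.mp hx t).mp ht) hw
    have htop := (hirr (fix ρ T) (fun x hx => hinv x (hN (le_normalizer hx)))
      (fun a ha => hinv a (hN (S.norm ha)))).resolve_left hne
    rw [eq_bot_iff]
    intro t ht
    refine mem_bot.mpr (Subtype.ext (hinj _ t.2 (MulEquiv.ext fun v => ?_)))
    exact (htop.ge (mem_top v)) _ (mem_map_of_mem K.subtype ht)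
  -- the Fitting subgroup
  set Y : Subgroup H := (fittingSubgroup K).map K.subtype with hYdef
  have : (fittingSubgroup K).Characteristic :=
    characteristic_iff_map_eq.mpr fun e => Core.map_fittingSubgroup e
  have hYK : Y ≤ K := map_subtype_le _
  have hNY : normalizer (K : Set H) ≤ normalizer (Y : Set H) := normalizer_le_map_char _
  have hAY : A ≤ normalizer (Y : Set H) := S.norm.trans hNY
  have hKY : K ≤ normalizer (Y : Set H) := le_normalizer.trans hNY
  have hYnil : Group.IsNilpotent Y := Core.isNilpotent_map Core.fittingSubgroup_isNilpotent _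
  have hYcop : ∀ X : Subgroup H, X ≤ Y → (Nat.card X).Coprime (Nat.card V) := by
    intro X hX
    have h1 : fittingSubgroup K ≤ pPrimeCore p K := by
      rw [Core.fittingSubgroup_eq_iSup_pCore]
      refine iSup_le fun l => ?_
      have := Fact.mk l.2
      by_cases hl : (l : ℕ) = p
      · rw [hl, hcore]; exact bot_le
      · refine Core.le_pPrimeCore ?_
        obtain ⟨n, hn⟩ := IsPGroup.iff_card.mp (Core.pCore_isPGroup (p := (l : ℕ)) (G := K))
        rw [hn]
        exact ((Nat.coprime_primes l.2 Fact.out).mpr hl).pow_left n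
    obtain ⟨n, hn⟩ := IsPGroup.iff_card.mp hV
    rw [hn]
    refine (Nat.Coprime.coprime_dvd_left ?_
      (Core.coprime_card_pPrimeCore (p := p) (G := K))).pow_right n
    exact (card_dvd_of_le hX).trans ((card_map_of_injective K.subtype_injective).symm ▸
      card_dvd_of_le h1)
  -- the pieces `Y_g`
  let P : H → Subgroup H := fun g => Y ⊓ centralizer {g}
  have hPY : ∀ g, P g ≤ Y := fun g => inf_le_left
  have hPc : ∀ g, ∀ x ∈ P g, Commute x g := fun g x hx => mem_cent.mp hx.2
  have hPA : ∀ g ∈ A, ∀ a ∈ A, ∀ x ∈ P g, a * x * a⁻¹ ∈ P g := by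
    intro g hg a ha x hx
    refine ⟨(mem_normalizer_iff.mp (hAY ha) x).mp hx.1, mem_cent.mpr ?_⟩
    have hag := S.commA a ha g hg
    exact (hag.mul_left (hPc g x hx)).mul_left hag.inv_left
  have hPsame : ∀ g ∈ A, ∀ h ∈ zpowers g, h ≠ 1 → P h = P g := fun g hg h hh hh1 => by
    ext x
    exact and_congr_right fun _ =>
      mem_cent.trans ((S.toBase.commute_line hg hh hh1).trans mem_cent.symm)
  have hfpfP : ∀ g ∈ A, g ≠ 1 → ∀ h ∈ A, h ∉ zpowers g → ∀ x ∈ P g, Commute x h → x = 1 :=
    fun g hg hg1 h hh hne x hx hxh =>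
      S.fpf_pair hg hg1 hh hne (hYK hx.1) (hPc g x hx) hxh
  -- `Y` is abelian
  have hYab : ∀ x ∈ Y, ∀ y ∈ Y, Commute x y := by
    by_contra hnc
    have hD : ⁅Y, Y⁆ ≠ ⊥ := fun h => hnc fun x hx y hy =>
      commutatorElement_eq_one_iff_commute.mp
        (mem_bot.mp (h ▸ commutator_mem_commutator hx hy))
    have hD0 := exists_lcs_centralized hYnil hD
    set D := ⁅Y, Y⁆ ⊓ centralizer (Y : Set H) with hDdef
    have hDY : D ≤ Y := inf_le_left.trans (commutator_le_self _)
    have hAD : A ≤ normalizer (D : Set H) := Coprime.le_normalizer_inf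
      (fun a ha => by
        apply Coprime.mem_normalizer_of_conj_smul_eq
        rw [Coprime.conj_smul_eq_map, map_commutator, ← Coprime.conj_smul_eq_map,
          Coprime.conj_smul_eq_self_of_mem_normalizer (hAY ha)])
      (Coprime.le_normalizer_centralizer hAY)
    obtain ⟨g, hg, hg1, hgne⟩ : ∃ g ∈ A, g ≠ 1 ∧ D ⊓ centralizer {g} ≠ ⊥ := by
      by_contra hall
      push Not at hall
      exact hD0 (eq_bot_iff.mpr (S.toBase.generate (hDY.trans hYK) hAD
        fun a ha ha1 x hx hxa => (hall a ha ha1) ▸ ⟨hx, mem_cent.mpr hxa⟩))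
    set X : Subgroup H := D ⊓ centralizer {g}
    have hXY : ∀ x ∈ X, ∀ y ∈ Y, Commute x y := fun x hx y hy =>
      (mem_centralizer_iff.mp hx.1.2 y hy).symm
    have hXP : X ≤ P g := fun x hx => ⟨hDY hx.1, hx.2⟩
    have hXb : ∀ h ∈ A, ∀ x ∈ X, h * x * h⁻¹ ∈ X := fun h hh x hx =>
      ⟨(mem_normalizer_iff.mp (hAD hh) x).mp hx.1, (hPA g hg h hh x (hXP hx)).2⟩
    set U := moved ρ X
    have hYU : ∀ y ∈ Y, ∀ u ∈ U, ρ y u ∈ U := fun y hy u hu =>
      map_moved ρ (fun x hx => by rw [← (hXY x hx y hy).eq, mul_inv_cancel_right]; exact hx) hu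
    have htriv : ∀ h ∈ A, h ∉ zpowers g → ∀ z ∈ P h, ∀ u ∈ U, ρ z u = u := by
      intro h hh hne z hz u hu
      have hh1 : h ≠ 1 := fun h0 => hne (h0 ▸ one_mem _)
      exact eq_of_frobenius ρ S.hq (S.expA h hh) (hXb h hh)
        (fun x hx => hfpfP g hg hg1 h hh hne x (hXP hx)) (hYcop X (hXP.trans (hPY g)))
        (fun x hx => hXY x hx z hz.1) (hab h hh hh1 z (hYK hz.1) (hPc h z hz)) hu
    have hall : ∀ y ∈ Y, ∃ y' ∈ P g, ∀ u ∈ U, ρ y u = ρ y' u := by
      let W : Subgroup H :=
        { carrier := {y | y ∈ Y ∧ ∃ y' ∈ P g, ∀ u ∈ U, ρ y u = ρ y' u}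
          one_mem' := ⟨one_mem _, 1, one_mem _, fun _ _ => rfl⟩
          mul_mem' := by
            rintro a b ⟨ha, a', ha', hae⟩ ⟨hb, b', hb', hbe⟩
            refine ⟨mul_mem ha hb, a' * b', mul_mem ha' hb', fun u hu => ?_⟩
            rw [map_mul, map_mul, MulAut.mul_apply, MulAut.mul_apply, hbe u hu,
              hae _ (hYU b' hb'.1 u hu)]
          inv_mem' := by
            rintro a ⟨ha, a', ha', hae⟩
            refine ⟨inv_mem ha, a'⁻¹, inv_mem ha', fun u hu => ?_⟩
            apply (ρ a).injective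
            rw [← MulAut.mul_apply, ← map_mul, mul_inv_cancel, map_one, MulAut.one_apply,
              hae _ (hYU _ (inv_mem ha'.1) u hu), ← MulAut.mul_apply, ← map_mul, mul_inv_cancel,
              map_one, MulAut.one_apply] }
      refine fun y hy => (S.toBase.generate (W := W) hYK hAY ?_ hy).2
      intro a ha ha1 x hx hxa
      refine ⟨hx, ?_⟩
      by_cases hag : a ∈ zpowers g
      · exact ⟨x, hPsame g hg a hag ha1 ▸ ⟨hx, mem_cent.mpr hxa⟩, fun _ _ => rfl⟩
      · exact ⟨1, one_mem _, fun u hu => by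
          rw [map_one, MulAut.one_apply]; exact htriv a ha hag x ⟨hx, mem_cent.mpr hxa⟩ u hu⟩
    let Stab : Subgroup H :=
      { carrier := {y | y ∈ Y ∧ ∀ u ∈ U, ρ y u = u}
        one_mem' := ⟨one_mem _, fun _ _ => by rw [map_one, MulAut.one_apply]⟩
        mul_mem' := fun {a b} ha hb => ⟨mul_mem ha.1 hb.1, fun u hu => by
          rw [map_mul, MulAut.mul_apply, hb.2 u hu, ha.2 u hu]⟩
        inv_mem' := fun {a} ha => ⟨inv_mem ha.1, fun u hu => by
          apply (ρ a).injective
          rw [← MulAut.mul_apply, ← map_mul, mul_inv_cancel, map_one, MulAut.one_apply, ha.2 u hu]⟩ }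
    have hder : ⁅Y, Y⁆ ≤ Stab := by
      rw [commutator_le]
      intro x hx y hy
      refine ⟨commutator_le_self _ (commutator_mem_commutator hx hy), fun u hu => ?_⟩
      have hxy : ∀ u ∈ U, ρ (x * y) u = ρ (y * x) u := by
        intro u hu
        obtain ⟨x', hx', hxe⟩ := hall x hx
        obtain ⟨y', hy', hye⟩ := hall y hy
        rw [map_mul, map_mul, MulAut.mul_apply, MulAut.mul_apply, hye u hu, hxe u hu,
          hxe _ (hYU y' hy'.1 u hu), hye _ (hYU x' hx'.1 u hu)]
        exact rho_comm ρ (S.ab g hg hg1 x' (hYK hx'.1) y' (hYK hy'.1) (hPc g x' hx') (hPc g y' hy')) u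
      have hv : ρ (x⁻¹ * y⁻¹) u ∈ U := hYU _ (mul_mem (inv_mem hx) (inv_mem hy)) u hu
      rw [show ⁅x, y⁆ = (x * y) * (x⁻¹ * y⁻¹) by simp [commutatorElement_def, mul_assoc], map_mul,
        MulAut.mul_apply, hxy _ hv, ← MulAut.mul_apply, ← map_mul,
        show y * x * (x⁻¹ * y⁻¹) = 1 by group, map_one, MulAut.one_apply]
    have hU : U = ⊥ := eq_bot_iff.mpr fun u hu =>
      moved_inf_fix ρ (hYcop X (hXP.trans (hPY g))) ▸
        (⟨hu, fun x hx => (hder hx.1.1).2 u hu⟩ : u ∈ moved ρ X ⊓ fix ρ X)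
    apply hgne
    rw [eq_bot_iff]
    intro x hx
    refine mem_bot.mpr (hinj x (hYK (hDY hx.1)) (MulEquiv.ext fun v => ?_))
    exact div_eq_one.mp (mem_bot.mp (hU ▸ div_mem_moved ρ hx v))
  -- decomposition of `V`
  have hPP : ∀ g, ∀ x ∈ P g, ∀ y ∈ Y, y * x * y⁻¹ ∈ P g := fun g x hx y hy => by
    rw [(hYab y hy x hx.1).eq, mul_inv_cancel_right]; exact hx
  have htrivP : ∀ g ∈ A, g ≠ 1 → ∀ h ∈ A, h ∉ zpowers g → ∀ z ∈ P h, ∀ u ∈ moved ρ (P g),
      ρ z u = u := by
    intro g hg hg1 h hh hne z hz u hu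
    have hh1 : h ≠ 1 := fun h0 => hne (h0 ▸ one_mem _)
    exact eq_of_frobenius ρ S.hq (S.expA h hh) (hPA g hg h hh)
      (fun x hx => hfpfP g hg hg1 h hh hne x hx) (hYcop _ (hPY g))
      (fun x hx => hYab x hx.1 z hz.1) (hab h hh hh1 z (hYK hz.1) (hPc h z hz)) hu
  have hdec : ∀ s : Finset H, (∀ g ∈ s, g ∈ A ∧ g ≠ 1) → ∀ v : V,
      ∃ c : V, (∀ g ∈ s, c ∈ fix ρ (P g)) ∧ ∃ u ∈ ⨆ g ∈ s, moved ρ (P g), v = u * c := by
    classical
    intro s
    induction s using Finset.induction with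
    | empty => exact fun _ v => ⟨v, by simp, 1, one_mem _, (one_mul v).symm⟩
    | @insert g s hgs ih =>
      intro hs v
      obtain ⟨c, hc, u, hu, rfl⟩ := ih (fun h hh => hs h (Finset.mem_insert_of_mem hh)) v
      obtain ⟨hgA, hg1⟩ := hs g (Finset.mem_insert_self g s)
      obtain ⟨u', hu', c', hc', rfl⟩ :=
        mem_sup.mp ((moved_sup_fix ρ (hYcop (P g) (hPY g))).ge (mem_top c))
      refine ⟨c', fun h hh => ?_, u * u', ?_, (mul_assoc _ _ _).symm⟩
      · rcases Finset.mem_insert.mp hh with rfl | hh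
        · exact hc'
        obtain ⟨hhA, hh1⟩ := hs h (Finset.mem_insert_of_mem hh)
        by_cases hl : h ∈ zpowers g
        · rw [hPsame g hgA h hl hh1]; exact hc'
        intro x hx
        have := hc h hh x hx
        rw [map_mul, htrivP g hgA hg1 h hhA hl x hx u' hu'] at this
        exact mul_left_cancel this
      · rw [Finset.iSup_insert, sup_comm]
        exact mul_mem_sup hu hu'
  have hext : ∀ z z' : H, (∀ c, (∀ g ∈ A, g ≠ 1 → c ∈ fix ρ (P g)) → ρ z c = ρ z' c) →
      (∀ g ∈ A, g ≠ 1 → ∀ u ∈ moved ρ (P g), ρ z u = ρ z' u) → ρ z = ρ z' := by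
    classical
    intro z z' hfixed hmoved
    let _ := Fintype.ofFinite H
    set s := Finset.univ.filter fun g : H => g ∈ A ∧ g ≠ 1
    let E : Subgroup V := (ρ z).toMonoidHom.eqLocus (ρ z').toMonoidHom
    have hE : ⨆ g ∈ s, moved ρ (P g) ≤ E :=
      iSup₂_le fun g hg u hu => hmoved g (Finset.mem_filter.mp hg).2.1 (Finset.mem_filter.mp hg).2.2 u hu
    refine MulEquiv.ext fun v => ?_
    obtain ⟨c, hc, u, hu, rfl⟩ := hdec s (fun g hg => by simpa [s] using hg) v
    rw [map_mul, map_mul, hfixed c fun g hg hg1 => hc g (by simp [s, hg, hg1]),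
      show ρ z u = ρ z' u from hE hu]
  -- every fixed point piece of `K` centralises `Y`
  have hKb : ∀ b ∈ A, b ≠ 1 → ∀ x ∈ K, Commute x b → ∀ y ∈ Y, Commute x y := by
    intro b hb hb1
    have hUinv : ∀ x ∈ K, Commute x b → ∀ h ∈ A, h ≠ 1 → ∀ u ∈ moved ρ (P h),
        ρ x u ∈ moved ρ (P h) := by
      intro x hx hxb h hh hh1 u hu
      by_cases hl : h ∈ zpowers b
      · rw [hPsame b hb h hl hh1] at hu ⊢
        refine map_moved ρ (fun y hy => ?_) hu
        rw [(S.ab b hb hb1 x hx y (hYK hy.1) hxb (hPc b y hy)).eq, mul_inv_cancel_right]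
        exact hy
      · have hne : b ∉ zpowers h := S.toBase.not_mem_symm hb hb1 hh hl
        refine le_of_frobenius ρ S.hq (S.expA b hb) (hPA h hh b hb)
          (fun y hy => hfpfP h hh hh1 b hb hne y hy) (hYcop _ (hPY h))
          (U := moved ρ (P h)) (R := (moved ρ (P h)).comap (ρ x).toMonoidHom)
          (fun y hy u hu => map_moved ρ (fun y' hy' => hPP h y' hy' y hy.1) hu)
          (fun u hu => map_moved ρ (hPA h hh b hb) hu) (moved_inf_fix ρ (hYcop _ (hPY h))) ?_ hu
        intro y hy w hw hwb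
        change ρ x (ρ y w) ∈ moved ρ (P h)
        rw [← rho_conj ρ x y w, hab b hb hb1 x hx hxb w hwb]
        exact map_moved ρ (fun y' hy' => hPP h y' hy' _ ((mem_normalizer_iff.mp (hKY hx) y).mp hy.1)) hw
    intro x hx hxb
    have key : ∀ g ∈ A, g ≠ 1 → g ∉ zpowers b → ∀ x ∈ K, Commute x b → ∀ y ∈ P g,
        Commute (x⁻¹ * (g * x * g⁻¹)) y := by
      intro g hg hg1 hgb x hx hxb y hy
      set z := x * y * x⁻¹
      have hzY : z ∈ Y := (mem_normalizer_iff.mp (hKY hx) y).mp hy.1
      have hgz : g * z * g⁻¹ ∈ Y := (mem_normalizer_iff.mp (hAY hg) z).mp hzY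
      have hfix : ∀ c, (∀ h ∈ A, h ≠ 1 → c ∈ fix ρ (P h)) → ∀ w ∈ Y, ρ w c = c := by
        intro c hc w hw
        let W : Subgroup H :=
          { carrier := {w | ρ w c = c}
            one_mem' := by change ρ 1 c = c; rw [map_one, MulAut.one_apply]
            mul_mem' := fun {s t} hs ht => by
              change ρ (s * t) c = c
              rw [map_mul, MulAut.mul_apply, show ρ t c = c from ht, show ρ s c = c from hs]
            inv_mem' := fun {s} hs => by
              change ρ s⁻¹ c = c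
              apply (ρ s).injective
              rw [← MulAut.mul_apply, ← map_mul, mul_inv_cancel, map_one, MulAut.one_apply,
                show ρ s c = c from hs] }
        exact S.toBase.generate (W := W) hYK hAY
          (fun a ha ha1 v hv hva => hc a ha ha1 v ⟨hv, mem_cent.mpr hva⟩) hw
      have heq : ρ (g * z * g⁻¹) = ρ z := by
        refine hext _ _ (fun c hc => ?_) (fun h hh hh1 u hu => ?_)
        · rw [hfix c hc _ hgz, hfix c hc _ hzY]
        by_cases hl : h ∈ zpowers g
        · -- `z` commutes with `g` on this piece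
          rw [hPsame g hg h hl hh1] at hu
          have hgu : ∀ u ∈ moved ρ (P g), ρ g⁻¹ u ∈ moved ρ (P g) := fun u hu =>
            map_moved ρ (hPA g hg g⁻¹ (inv_mem hg)) hu
          have hYu : ∀ w ∈ Y, ∀ u ∈ moved ρ (P g), ρ w u ∈ moved ρ (P g) := fun w hw u hu =>
            map_moved ρ (fun y' hy' => hPP g y' hy' w hw) hu
          let W : Subgroup H :=
            { carrier := {w | w ∈ Y ∧ ∀ u ∈ moved ρ (P g), ρ g (ρ w u) = ρ w (ρ g u)}
              one_mem' := ⟨one_mem _, fun u _ => by rw [map_one, MulAut.one_apply, MulAut.one_apply]⟩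
              mul_mem' := fun {s t} hs ht => ⟨mul_mem hs.1 ht.1, fun u hu => by
                rw [map_mul, MulAut.mul_apply, MulAut.mul_apply, hs.2 _ (hYu t ht.1 u hu), ht.2 u hu]⟩
              inv_mem' := fun {s} hs => ⟨inv_mem hs.1, fun u hu => by
                apply (ρ s).injective
                rw [← hs.2 _ (hYu _ (inv_mem hs.1) u hu), rho_cancel, rho_cancel]⟩ }
          have hzW : z ∈ W := S.toBase.generate (W := W) hYK hAY (fun a ha ha1 w hw hwa => by
            refine ⟨hw, fun u hu => ?_⟩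
            by_cases hag : a ∈ zpowers g
            · exact rho_comm ρ ((S.toBase.commute_line hg hag ha1).mp hwa).symm u
            · rw [htrivP g hg hg1 a ha hag w ⟨hw, mem_cent.mpr hwa⟩ u hu,
                htrivP g hg hg1 a ha hag w ⟨hw, mem_cent.mpr hwa⟩ _
                  (map_moved ρ (hPA g hg g hg) hu)]) hzY
          rw [map_mul, map_mul, MulAut.mul_apply, MulAut.mul_apply, hzW.2 _ (hgu u hu),
            rho_cancel]
        · -- `z` is trivial on this piece
          have hzt : ∀ u ∈ moved ρ (P h), ρ z u = u := by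
            intro u hu
            have hu' := hUinv x⁻¹ (inv_mem hx) hxb.inv_left h hh hh1 u hu
            have hyu := htrivP h hh hh1 g hg (S.toBase.not_mem_symm hg hg1 hh hl) y hy _ hu'
            change ρ (x * y * x⁻¹) u = u
            rw [map_mul, map_mul, MulAut.mul_apply, MulAut.mul_apply, hyu, ← MulAut.mul_apply,
              ← map_mul, mul_inv_cancel, map_one, MulAut.one_apply]
          rw [map_mul, map_mul, MulAut.mul_apply, MulAut.mul_apply,
            hzt _ (map_moved ρ (hPA h hh g⁻¹ (inv_mem hg)) hu), hzt u hu, ← MulAut.mul_apply,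
            ← map_mul, mul_inv_cancel, map_one, MulAut.one_apply]
      have hgzz : g * z * g⁻¹ = z := by
        refine inv_mul_eq_one.mp (hinj _ (K.mul_mem (inv_mem (hYK hgz)) (hYK hzY)) ?_)
        rw [map_mul, map_inv, heq, inv_mul_cancel]
      have hgy : g * y * g⁻¹ = y := by rw [← (hPc g y hy).eq, mul_inv_cancel_right]
      have h2 : (g * x * g⁻¹) * y * (g * x * g⁻¹)⁻¹ = x * y * x⁻¹ := by
        calc (g * x * g⁻¹) * y * (g * x * g⁻¹)⁻¹
            = (g * x * g⁻¹) * (g * y * g⁻¹) * (g * x * g⁻¹)⁻¹ := by rw [hgy]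
          _ = g * z * g⁻¹ := by simp only [z]; group
          _ = x * y * x⁻¹ := hgzz
      have h3 : (x⁻¹ * (g * x * g⁻¹)) * y * (x⁻¹ * (g * x * g⁻¹))⁻¹ = y := by
        calc _ = x⁻¹ * ((g * x * g⁻¹) * y * (g * x * g⁻¹)⁻¹) * x := by group
          _ = y := by rw [h2]; group
      exact mul_inv_eq_iff_eq_mul.mp h3
    intro y hy
    let W : Subgroup H := centralizer {x}
    refine (mem_cent.mp (S.toBase.generate (W := W) hYK hAY (fun a ha ha1 w hw hwa => ?_) hy)).symm
    by_cases hab' : a ∈ zpowers b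
    · exact mem_cent.mpr (S.ab b hb hb1 w (hYK hw) x hx
        ((S.toBase.commute_line hb hab' ha1).mp hwa) hxb)
    -- surjectivity of `x ↦ x⁻¹ a x a⁻¹`
    let X : Subgroup H := K ⊓ centralizer {b}
    let f : X → X := fun t => ⟨(t : H)⁻¹ * (a * (t : H) * a⁻¹),
      X.mul_mem (X.inv_mem t.2) ⟨(mem_normalizer_iff.mp (S.norm ha) _).mp t.2.1,
        mem_cent.mpr (((S.commA a ha b hb).mul_left (mem_cent.mp t.2.2)).mul_left
          (S.commA a ha b hb).inv_left)⟩⟩
    have hinjf : Function.Injective f := by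
      intro s t hst
      have h : (s : H)⁻¹ * (a * (s : H) * a⁻¹) = (t : H)⁻¹ * (a * (t : H) * a⁻¹) :=
        congrArg Subtype.val hst
      have hc : Commute ((t : H) * (s : H)⁻¹) a := by
        have := congrArg (fun w => (t : H) * w * a * (s : H)⁻¹) h
        simp only [Commute, SemiconjBy]
        simpa [mul_assoc] using this
      have := S.fpf_pair hb hb1 ha hab' (X.mul_mem t.2 (X.inv_mem s.2)).1
        (mem_cent.mp (X.mul_mem t.2 (X.inv_mem s.2)).2) hc
      exact Subtype.ext (mul_inv_eq_one.mp this).symm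
    obtain ⟨t, ht⟩ := (Finite.injective_iff_surjective.mp hinjf) ⟨x, hx, mem_cent.mpr hxb⟩
    have := key a ha ha1 hab' t t.2.1 (mem_cent.mp t.2.2) w ⟨hw, mem_cent.mpr hwa⟩
    rw [show (t : H)⁻¹ * (a * (t : H) * a⁻¹) = x from congrArg Subtype.val ht] at this
    exact mem_cent.mpr this.symm
  have hKleY : K ≤ Y := by
    refine S.toBase.generate le_rfl S.norm fun a ha ha1 x hx hxa => ?_
    have := hs
    refine ⟨⟨x, hx⟩, Core.centralizer_fittingSubgroup_le ?_, rfl⟩
    intro w hw
    exact Subtype.ext ((hKb a ha ha1 x hx hxa w (mem_map_of_mem K.subtype hw)).symm).eq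
  exact fun x hx y hy => hYab x (hKleY hx) y (hKleY hy)

end Cfsg.Agent.AbCentFpf
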