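import Cfsg.Agent.AbCentFpf.Chief
import Cfsg.Agent.Fusion.FixedPointFree

/-!
Solvable groups with a `(q,q)`-group of operators with abelian centralisers and trivial common
centraliser: the derived subgroup is nilpotent, and a non-nilpotent one has fixed points on the
Fitting subgroup on all lines but at most one.
-/

set_option autoImplicit false

open Subgroup
open scoped commutatorElement

namespace Cfsg.Agent.AbCentFpf

universe u

variable {Γ : Type u} [Group Γ]

/-- `F(K)` inside `Γ`. -/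
def Ftg (K : Subgroup Γ) : Subgroup Γ := (fittingSubgroup K).map K.subtype

/-- `O_p(K)` inside `Γ`. -/
def Cor (p : ℕ) (K : Subgroup Γ) : Subgroup Γ := (pCore p K).map K.subtype

variable {K : Subgroup Γ}

theorem ftg_le : Ftg K ≤ K := map_subtype_le _

theorem cor_le (p : ℕ) : Cor p K ≤ K := map_subtype_le _

theorem cor_isPGroup (p : ℕ) : IsPGroup p (Cor p K) := Core.pCore_isPGroup.map _

theorem normalizer_le_cor (p : ℕ) : normalizer (K : Set Γ) ≤ normalizer (Cor p K : Set Γ) :=
  normalizer_le_map_char _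

theorem normal_subgroupOf {N : Subgroup Γ} (hn : K ≤ normalizer (N : Set Γ)) :
    (N.subgroupOf K).Normal := normal_subgroupOf_of_le_normalizer hn

theorem le_cor {p : ℕ} {N : Subgroup Γ} (hNK : N ≤ K) (hn : K ≤ normalizer (N : Set Γ))
    (hp : IsPGroup p N) : N ≤ Cor p K := by
  have := normal_subgroupOf hn
  have h := Core.le_pCore (G := K) (N := N.subgroupOf K)
    (IsPGroup.of_equiv hp (subgroupOfEquivOfLe hNK).symm)
  have h' := map_mono (f := K.subtype) h
  rwa [map_subgroupOf_eq_of_le hNK] at h'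

theorem le_ftg {N : Subgroup Γ} (hNK : N ≤ K) (hn : K ≤ normalizer (N : Set Γ))
    (hnil : Group.IsNilpotent N) : N ≤ Ftg K := by
  have := normal_subgroupOf hn
  have h := Core.le_fittingSubgroup (G := K) (N := N.subgroupOf K)
    ((Group.isNilpotent_congr (subgroupOfEquivOfLe hNK)).mpr hnil)
  have h' := map_mono (f := K.subtype) h
  rwa [map_subgroupOf_eq_of_le hNK] at h'

theorem normalizer_le_ftg : normalizer (K : Set Γ) ≤ normalizer (Ftg K : Set Γ) :=
  let _ : (fittingSubgroup K).Characteristic :=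
    characteristic_iff_map_eq.mpr fun e => Core.map_fittingSubgroup e
  normalizer_le_map_char _

theorem cor_le_ftg [Finite Γ] (p : ℕ) [Fact p.Prime] : Cor p K ≤ Ftg K :=
  map_mono (Core.pCore_le_fittingSubgroup p)

theorem ftg_isNilpotent [Finite Γ] : Group.IsNilpotent (Ftg K) :=
  Core.isNilpotent_map Core.fittingSubgroup_isNilpotent _

theorem ftg_le_of_cor [Finite Γ] {W : Subgroup Γ} (h : ∀ p : ℕ, p.Prime → Cor p K ≤ W) : Ftg K ≤ W := by
  rw [Ftg, Core.fittingSubgroup_eq_iSup_pCore, Subgroup.map_iSup]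
  exact iSup_le fun l => h l l.2

theorem commute_of_isPGroup [Finite Γ] {N : Subgroup Γ} (hN : Group.IsNilpotent N) {p r : ℕ}
    [Fact p.Prime] [Fact r.Prime] (hpr : p ≠ r) {X Y : Subgroup Γ} (hX : IsPGroup p X)
    (hY : IsPGroup r Y) (hXN : X ≤ N) (hYN : Y ≤ N) : ∀ x ∈ X, ∀ y ∈ Y, Commute x y := by
  intro x hx y hy
  obtain ⟨i, hi⟩ := IsPGroup.iff_orderOf.mp hX ⟨x, hx⟩
  obtain ⟨j, hj⟩ := IsPGroup.iff_orderOf.mp hY ⟨y, hy⟩
  rw [Subgroup.orderOf_mk] at hi hj
  refine congrArg Subtype.val (Char.commute_of_nilpotent_coprime (hnil := hN) (a := (⟨x, hXN hx⟩ : N))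
    (b := ⟨y, hYN hy⟩) ?_).eq
  rw [Subgroup.orderOf_mk, Subgroup.orderOf_mk, hi, hj]
  exact Nat.Coprime.pow i j ((Nat.coprime_primes Fact.out Fact.out).mpr hpr)

theorem cor_commute [Finite Γ] {p r : ℕ} [Fact p.Prime] [Fact r.Prime] (hpr : p ≠ r) :
    ∀ x ∈ Cor p K, ∀ y ∈ Cor r K, Commute x y :=
  commute_of_isPGroup ftg_isNilpotent hpr (cor_isPGroup p) (cor_isPGroup r) (cor_le_ftg p)
    (cor_le_ftg r)

/-- A `p`-subgroup of the Fitting subgroup lies in `O_p`. -/
theorem le_cor_of_le_ftg [Finite Γ] {p : ℕ} [Fact p.Prime] {X : Subgroup Γ} (hX : IsPGroup p X)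
    (hXF : X ≤ Ftg K) : X ≤ Cor p K := by
  have hXK := hXF.trans ftg_le
  set N := fittingSubgroup K
  have hN : Group.IsNilpotent N := Core.fittingSubgroup_isNilpotent
  have hX' : X.subgroupOf K ≤ N := fun x hx => by
    obtain ⟨y, hy, e⟩ := hXF hx
    exact (Subtype.ext e : y = x) ▸ hy
  obtain ⟨P, hP⟩ := ((IsPGroup.of_equiv hX (subgroupOfEquivOfLe hXK).symm).of_equiv
    (subgroupOfEquivOfLe hX').symm).exists_le_sylow
  have hPn : (P : Subgroup N).Normal := inferInstance
  have h := map_mono (f := N.subtype) (hP.trans (Core.le_pCore P.isPGroup'))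
  rw [map_subgroupOf_eq_of_le hX', Core.map_pCore_normal] at h
  have h' := map_mono (f := K.subtype) (h.trans inf_le_left)
  rwa [map_subgroupOf_eq_of_le hXK] at h'

theorem centralizer_ftg_le [Finite Γ] (hs : Group.IsSolvable K) {x : Γ} (hx : x ∈ K)
    (h : ∀ y ∈ Ftg K, Commute y x) : x ∈ Ftg K := by
  have := hs
  exact ⟨⟨x, hx⟩, Core.centralizer_fittingSubgroup_le
    (fun w hw => Subtype.ext (h w (mem_map_of_mem _ hw)).eq), rfl⟩

variable {q : ℕ} {A : Subgroup Γ}

theorem exists_minimal_normal [Finite Γ] (hK : K ≠ ⊥) (hA : A ≤ normalizer (K : Set Γ)) :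
    ∃ V : Subgroup Γ, (V ≤ K ∧ V ≠ ⊥ ∧ A ≤ normalizer (V : Set Γ) ∧ K ≤ normalizer (V : Set Γ)) ∧
      ∀ W : Subgroup Γ, W ≤ V → A ≤ normalizer (W : Set Γ) → K ≤ normalizer (W : Set Γ) →
        W = ⊥ ∨ W = V := by
  obtain ⟨V, hV, hmin⟩ := wellFounded_lt.has_min
    {V : Subgroup Γ | V ≤ K ∧ V ≠ ⊥ ∧ A ≤ normalizer (V : Set Γ) ∧ K ≤ normalizer (V : Set Γ)}
    ⟨K, le_rfl, hK, hA, le_normalizer⟩
  refine ⟨V, hV, fun W hW hWA hWK => ?_⟩
  by_contra h
  push Not at h
  exact hmin W ⟨hW.trans hV.1, h.1, hWA, hWK⟩ (lt_of_le_of_ne hW h.2)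

theorem le_normalizer_comm {B N : Subgroup Γ} (h : B ≤ normalizer (N : Set Γ)) :
    B ≤ normalizer ((⁅N, N⁆ : Subgroup Γ) : Set Γ) := by
  intro a ha
  apply Coprime.mem_normalizer_of_conj_smul_eq
  rw [Coprime.conj_smul_eq_map, map_commutator, ← Coprime.conj_smul_eq_map,
    Coprime.conj_smul_eq_self_of_mem_normalizer (h ha)]

theorem commutator_isNilpotent_aux : ∀ n : ℕ, ∀ {Γ : Type u} [Group Γ] [Finite Γ] {A K : Subgroup Γ},
    Setup q A K → Group.IsSolvable K → Nat.card K ≤ n → Group.IsNilpotent (⁅K, K⁆ : Subgroup Γ) := by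
  intro n
  induction n with
  | zero => intro Γ _ _ A K _ _ h; exact absurd h (by have := Nat.card_pos (α := K); omega)
  | succ n ih =>
    intro Γ _ _ A K S hs hn
    by_cases hK : K = ⊥
    · subst hK
      rw [Subgroup.commutator_bot_left]
      infer_instance
    obtain ⟨V, ⟨hVK, hV1, hVA, hVKn⟩, hmin⟩ := exists_minimal_normal hK S.norm
    have hVs : Group.IsSolvable V := Core.isSolvable_mono hs hVK
    have hV1' : Nontrivial V := (nontrivial_iff_ne_bot V).mpr hV1
    have hVab : ∀ x ∈ V, ∀ y ∈ V, Commute x y := by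
      rcases hmin ⁅V, V⁆ (commutator_le_self V) (le_normalizer_comm hVA) (le_normalizer_comm hVKn)
        with h | h
      · exact fun x hx y hy => commutatorElement_eq_one_iff_commute.mp
          (mem_bot.mp (h ▸ commutator_mem_commutator hx hy))
      · exfalso
        have h2 := Group.IsSolvable.commutator_lt_top_of_nontrivial V
        apply h2.ne
        apply map_injective V.subtype_injective
        rw [commutator_def, map_commutator, ← MonoidHom.range_eq_map, range_subtype, h]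
    let _ : CommGroup V :=
      { (inferInstance : Group V) with mul_comm := fun a b => Subtype.ext (hVab _ a.2 _ b.2).eq }
    obtain ⟨p, hp, hpd⟩ := Nat.exists_prime_and_dvd
      (show Nat.card V ≠ 1 from fun h => hV1 (Subgroup.card_eq_one.mp h))
    have := Fact.mk hp
    have hVp : IsPGroup p V := by
      obtain ⟨P⟩ : Nonempty (Sylow p V) := inferInstance
      have hPn : (P : Subgroup V).Normal := inferInstance
      have hP1 : (P : Subgroup V) ≠ ⊥ := P.ne_bot_of_dvd_card hpd
      have hle : (P : Subgroup V) ≤ pCore p V := Core.le_pCore P.isPGroup'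
      rcases hmin ((pCore p V).map V.subtype) (map_subtype_le _)
        (hVA.trans (normalizer_le_map_char _)) (hVKn.trans (normalizer_le_map_char _)) with h | h
      · exact absurd (le_bot_iff.mp ((map_eq_bot_iff_of_injective _ V.subtype_injective).mp h ▸ hle)) hP1
      · exact h ▸ Core.pCore_isPGroup.map _
    -- operators
    set Δ : Subgroup Γ := K ⊔ A
    have hKΔ : K ≤ Δ := le_sup_left
    have hAΔ : A ≤ Δ := le_sup_right
    have hVΔ : Δ ≤ normalizer (V : Set Γ) := sup_le hVKn hVA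
    have SΔ := S.subgroupOf Δ hAΔ hKΔ
    set K' : Subgroup Δ := K.subgroupOf Δ
    set A' : Subgroup Δ := A.subgroupOf Δ
    let f : Δ →* MulAut V := V.normalizerMonoidHom.comp (inclusion hVΔ)
    have hf : ∀ (d : Δ) (v : V), ((f d v : V) : Γ) = (d : Γ) * v * (d : Γ)⁻¹ := fun d v => rfl
    have hK'n : K'.Normal := normal_subgroupOf_of_le_normalizer (sup_le le_normalizer S.norm)
    set C : Subgroup Δ := f.ker ⊓ K'
    have hCn : C.Normal := inferInstance
    set π := QuotientGroup.mk' C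
    have hker : π.ker ≤ K' := by rw [QuotientGroup.ker_mk']; exact inf_le_right
    let ρ : Δ ⧸ C →* MulAut V := QuotientGroup.lift C f inf_le_left
    have hρ : ∀ d : Δ, ρ (π d) = f d := fun d => rfl
    have hlift : ∀ a ∈ A', ∀ x ∈ K'.map π, Commute x (π a) → ∃ k ∈ K', Commute k a ∧ π k = x := by
      intro a ha x hx hxa
      have hle : zpowers a ≤ A' := zpowers_le.mpr ha
      have hm : x ∈ K'.map π ⊓ centralizer (((zpowers a).map π : Subgroup _) : Set (Δ ⧸ C)) := by
        refine ⟨hx, mem_centralizer_iff.mpr fun w hw => ?_⟩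
        rw [MonoidHom.map_zpowers] at hw
        exact (commute_of_mem_zpowers hw hxa).eq.symm
      rw [← Coprime.map_inf_centralizer π (hle.trans SΔ.norm) hker
        ((SΔ.toBase.coprime_card hker).coprime_dvd_left (card_dvd_of_le hle))
        (Or.inl (Core.isSolvable_mono SΔ.toBase.solvA hle))] at hm
      obtain ⟨k, ⟨hk, hkc⟩, rfl⟩ := hm
      exact ⟨k, hk, (mem_centralizer_iff.mp hkc a (mem_zpowers a)).symm, rfl⟩
    have hsK : Group.IsSolvable (K'.map π) :=
      Core.isSolvable_map (Coprime.isSolvable_subgroupOf Δ hs) π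
    have hcomm := commute_of_irreducible (V := V) (p := p) (SΔ.map π hker) hsK hVp hV1' ρ ?_ ?_ ?_
    rotate_left
    · rintro _ ⟨k, hk, rfl⟩ h1
      exact (QuotientGroup.eq_one_iff k).mpr ⟨(hρ k).symm.trans h1, hk⟩
    · rintro _ ⟨a, ha, rfl⟩ ha1 x hx hxa v hv
      obtain ⟨k, hk, hka, rfl⟩ := hlift a ha x hx hxa
      rw [hρ] at hv ⊢
      refine Subtype.ext ?_
      have hv' : (a : Γ) * v * (a : Γ)⁻¹ = v := (hf a v).symm.trans (congrArg Subtype.val hv)
      have := S.ab (a : Γ) ha (fun h => ha1 (by rw [show a = 1 from Subtype.ext h, map_one]))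
        (k : Γ) hk (v : Γ) (hVK v.2) (congrArg Subtype.val hka.eq)
        (mul_inv_eq_iff_eq_mul.mp hv').symm
      rw [hf, this.eq, mul_inv_cancel_right]
    · intro W hWK hWA
      have hn : ∀ B : Subgroup Γ, (∀ b ∈ B, ∀ w ∈ W.map V.subtype, b * w * b⁻¹ ∈ W.map V.subtype) →
          B ≤ normalizer ((W.map V.subtype : Subgroup Γ) : Set Γ) := by
        intro B hB b hb
        rw [mem_normalizer_iff]
        refine fun w => ⟨hB b hb w, fun hw => ?_⟩
        have := hB b⁻¹ (inv_mem hb) _ hw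
        simpa [mul_assoc] using this
      rcases hmin (W.map V.subtype) (map_subtype_le _)
        (hn A (by
          rintro b hb _ ⟨w', hw', rfl⟩
          exact ⟨_, hWA (π ⟨b, hAΔ hb⟩) (mem_map_of_mem π (show (⟨b, hAΔ hb⟩ : Δ) ∈ A' from hb)) w' hw',
            rfl⟩))
        (hn K (by
          rintro b hb _ ⟨w', hw', rfl⟩
          exact ⟨_, hWK (π ⟨b, hKΔ hb⟩) (mem_map_of_mem π (show (⟨b, hKΔ hb⟩ : Δ) ∈ K' from hb)) w' hw',
            rfl⟩))
        with h | h
      · exact Or.inl ((map_eq_bot_iff_of_injective _ V.subtype_injective).mp h)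
      · refine Or.inr (map_injective V.subtype_injective ?_)
        rw [h, ← MonoidHom.range_eq_map, range_subtype]
    have hcen : ⁅K, K⁆ ≤ centralizer (V : Set Γ) := by
      rw [commutator_le]
      intro x hx y hy
      rw [mem_centralizer_iff]
      intro v hv
      have h1 : f ⁅(⟨x, hKΔ hx⟩ : Δ), ⟨y, hKΔ hy⟩⁆ = 1 := by
        rw [← hρ, map_commutatorElement π, commutatorElement_eq_one_iff_commute.mpr
          (hcomm _ (mem_map_of_mem π (show (⟨x, hKΔ hx⟩ : Δ) ∈ K' from hx)) _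
            (mem_map_of_mem π (show (⟨y, hKΔ hy⟩ : Δ) ∈ K' from hy))), map_one]
      have h2 := congrArg Subtype.val (DFunLike.congr_fun h1 (⟨v, hv⟩ : V))
      rw [hf] at h2
      exact (mul_inv_eq_iff_eq_mul.mp h2).symm
    -- the quotient by `V`
    have hVn : (V.subgroupOf Δ).Normal := normal_subgroupOf_of_le_normalizer hVΔ
    set μ := QuotientGroup.mk' (V.subgroupOf Δ)
    have hμker : μ.ker ≤ K' := by
      rw [QuotientGroup.ker_mk']; exact fun x hx => hVK hx
    have hlt : Nat.card (K'.map μ) ≤ n := by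
      have h := FixedPointFree.card_map_quotient_lt (L := K') (V := V.subgroupOf Δ)
        (fun x hx => hVK hx)
        (fun h => hV1 (by rw [← map_subgroupOf_eq_of_le (hVK.trans hKΔ), h, Subgroup.map_bot]))
      rw [Coprime.card_subgroupOf hKΔ] at h
      exact Nat.lt_succ_iff.mp (h.trans_le hn)
    have hq := ih (SΔ.map μ hμker)
      (Core.isSolvable_map (Coprime.isSolvable_subgroupOf Δ hs) μ) hlt
    rw [← map_commutator] at hq
    set D : Subgroup Δ := ⁅K', K'⁆
    have hDK : D.map Δ.subtype = ⁅K, K⁆ := by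
      rw [map_commutator, map_subgroupOf_eq_of_le hKΔ]
    have hnil : Group.IsNilpotent D := by
      have := hq
      refine Subgroup.isNilpotent_of_ker_le_center (μ.subgroupMap D) (fun x hx => ?_)
      rw [mem_center_iff]
      intro y
      have hxV : ((x : Δ) : Γ) ∈ V := (QuotientGroup.eq_one_iff (x : Δ)).mp (congrArg Subtype.val hx)
      have hyD : ((y : Δ) : Γ) ∈ ⁅K, K⁆ := hDK ▸ mem_map_of_mem Δ.subtype y.2
      exact Subtype.ext (Subtype.ext (mem_centralizer_iff.mp (hcen hyD) _ hxV).symm)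
    exact hDK ▸ Core.isNilpotent_map hnil _

theorem Setup.derived_le_ftg [Finite Γ] (S : Setup q A K) (hs : Group.IsSolvable K) :
    ⁅K, K⁆ ≤ Ftg K :=
  le_ftg (commutator_le_self K)
    (le_normalizer_commutator_self K)
    (commutator_isNilpotent_aux (Nat.card K) S hs le_rfl)
where le_normalizer_commutator_self (K : Subgroup Γ) :
    K ≤ normalizer ((⁅K, K⁆ : Subgroup Γ) : Set Γ) := le_normalizer_comm le_normalizer

theorem normal_of_derived_le {N : Subgroup Γ} (h1 : ⁅K, K⁆ ≤ N) (h2 : N ≤ K) :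
    K ≤ normalizer (N : Set Γ) :=
  le_normalizer_iff_commutator_le_left.mpr ((commutator_mono h2 le_rfl).trans h1)

/-- A `p`-subgroup centralising all `O_r`, `r ≠ p`, lies in `O_p`. -/
theorem Setup.absorb [Finite Γ] (S : Setup q A K) (hs : Group.IsSolvable K) {p : ℕ} [Fact p.Prime]
    {X : Subgroup Γ} (hXK : X ≤ K) (hX : IsPGroup p X)
    (hc : ∀ r : ℕ, r.Prime → r ≠ p → ∀ x ∈ X, ∀ y ∈ Cor r K, Commute x y) : X ≤ Cor p K := by
  set Q := X ⊔ Cor p K
  have hQ : IsPGroup p Q := hX.to_sup_of_normal_right' (cor_isPGroup p)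
    (hXK.trans (le_normalizer.trans (normalizer_le_cor p)))
  set T := ⨆ r : {r : Nat.Primes // (r : ℕ) ≠ p}, Cor (r : ℕ) K
  have hTF : T ≤ Ftg K := iSup_le fun r => by
    have := Fact.mk r.1.2
    exact cor_le_ftg _
  have hQT : ∀ x ∈ Q, ∀ y ∈ T, Commute x y := by
    have h : T ≤ centralizer (Q : Set Γ) := iSup_le fun r => by
      have := Fact.mk r.1.2
      have h2 : Q ≤ centralizer (Cor (r : ℕ) K : Set Γ) := by
        refine sup_le (fun x hx => mem_centralizer_iff.mpr fun y hy => ?_)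
          (fun x hx => mem_centralizer_iff.mpr fun y hy => ?_)
        · exact (hc r r.1.2 r.2 x hx y hy).eq.symm
        · exact (cor_commute (Ne.symm r.2) x hx y hy).eq.symm
      exact Subgroup.le_centralizer_iff.mp h2
    exact fun x hx y hy => mem_centralizer_iff.mp (h hy) x hx
  set N : Subgroup Γ := ⨆ i : Bool, cond i Q T
  have hN : Group.IsNilpotent N := Core.isNilpotent_iSup_of_commute (fun i => by
      cases i
      · exact Core.isNilpotent_mono ftg_isNilpotent hTF
      · exact hQ.isNilpotent) fun i j hij x y hx hy => by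
      cases i <;> cases j
      · exact absurd rfl hij
      · exact (hQT y hy x hx).symm
      · exact hQT x hx y hy
      · exact absurd rfl hij
  have hNe : N = Q ⊔ T := iSup_bool_eq
  have hFN : Ftg K ≤ N := by
    rw [hNe]
    refine ftg_le_of_cor fun r hr => ?_
    by_cases hrp : r = p
    · exact hrp ▸ le_sup_right.trans le_sup_left
    · exact le_sup_of_le_right (le_iSup (fun r : {r : Nat.Primes // (r : ℕ) ≠ p} => Cor (r : ℕ) K)
        ⟨⟨r, hr⟩, hrp⟩)
  have hNK : N ≤ K := hNe ▸ sup_le (sup_le hXK (cor_le p)) (hTF.trans ftg_le)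
  exact le_cor_of_le_ftg hX ((le_sup_left.trans (le_sup_left.trans hNe.ge)).trans
    (le_ftg hNK (normal_of_derived_le ((S.derived_le_ftg hs).trans hFN) hNK) hN))

/-- If `K` is not nilpotent, some line acts and all other lines have fixed points in `F(K)`. -/
theorem Setup.exists_line [Finite Γ] (S : Setup q A K) (hs : Group.IsSolvable K)
    (hn : ¬ Group.IsNilpotent K) :
    ∃ c ∈ A, c ≠ 1 ∧ (∃ x ∈ K, x ≠ 1 ∧ Commute x c) ∧
      ∀ e ∈ A, e ∉ zpowers c → ∃ r : ℕ, r.Prime ∧ ∃ x ∈ Cor r K, x ≠ 1 ∧ Commute x e := by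
  obtain ⟨c, hc, hc1, x, hx, hxc, hxF⟩ : ∃ c ∈ A, c ≠ 1 ∧ ∃ x ∈ K, Commute x c ∧ x ∉ Ftg K := by
    by_contra h
    push Not at h
    exact hn (Core.isNilpotent_mono ftg_isNilpotent
      (S.toBase.generate le_rfl S.norm fun a ha ha1 x hx hxa => h a ha ha1 x hx hxa))
  obtain ⟨s, hs', y, hys, hyx, hyF⟩ : ∃ s : ℕ, s.Prime ∧ ∃ y, IsPGroup s (zpowers y) ∧
      y ∈ zpowers x ∧ y ∉ Ftg K := by
    by_contra h
    push Not at h
    refine hxF (Coprime.le_of_forall_sylow_le (K := zpowers x) (fun p hp => ?_) (mem_zpowers x))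
    have := Fact.mk hp
    obtain ⟨P⟩ : Nonempty (Sylow p (zpowers x)) := inferInstance
    refine ⟨P, ?_⟩
    rintro _ ⟨y, hy, rfl⟩
    refine h p hp y (IsPGroup.to_le (P.isPGroup'.map (zpowers x).subtype) ?_) y.2
    exact zpowers_le.mpr (mem_map_of_mem _ hy)
  have := Fact.mk hs'
  have hyK : y ∈ K := (zpowers_le.mpr hx) hyx
  have hyc : Commute y c := by
    obtain ⟨k, rfl⟩ := mem_zpowers_iff.mp hyx
    exact hxc.zpow_left k
  obtain ⟨v, hv, hvs, z, hz, hzy⟩ : ∃ v : ℕ, v.Prime ∧ v ≠ s ∧ ∃ z ∈ Cor v K, ¬ Commute y z := by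
    by_contra h
    push Not at h
    refine hyF (cor_le_ftg s (S.absorb hs (zpowers_le.mpr hyK) hys ?_ (mem_zpowers y)))
    intro r hr hrs w hw z hz
    obtain ⟨k, rfl⟩ := mem_zpowers_iff.mp hw
    exact (h r hr hrs z hz).zpow_left k
  have := Fact.mk hv
  refine ⟨c, hc, hc1, ⟨y, hyK, fun h => hyF (h ▸ one_mem _), hyc⟩, fun e he hec => ⟨v, hv, ?_⟩⟩
  by_contra hR
  push Not at hR
  set Kc := K ⊓ centralizer ({c} : Set Γ) with hKc
  set X := Cor s Kc
  have hXK : X ≤ Kc := cor_le s
  have hKcA : A ≤ normalizer (Kc : Set Γ) := Coprime.le_normalizer_inf S.norm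
    (Coprime.le_normalizer_centralizer fun a ha => by
      rw [Subgroup.mem_set_normalizer_iff]
      intro w
      simp only [Set.mem_singleton_iff]
      constructor
      · rintro rfl; rw [(S.commA a ha w hc).eq, mul_inv_cancel_right]
      · intro h
        have := congrArg (fun t => a⁻¹ * t * a) h
        simp only [mul_assoc, inv_mul_cancel_left, inv_mul_cancel, mul_one] at this
        rw [this, (S.commA a ha c hc).symm.eq, inv_mul_cancel_left])
  have hXA : A ≤ normalizer (X : Set Γ) := hKcA.trans (normalizer_le_cor s)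
  have hyX : y ∈ X := by
    refine le_cor (K := Kc) (zpowers_le.mpr (show y ∈ Kc from ⟨hyK, mem_cent.mpr hyc⟩)) ?_ hys (mem_zpowers y)
    intro w hw
    rw [mem_normalizer_iff]
    intro t
    have hcw : ∀ t ∈ zpowers y, Commute w t := fun t ht =>
      commute_of_mem_zpowers ht (S.ab c hc hc1 w hw.1 y hyK (mem_cent.mp hw.2) hyc)
    constructor
    · intro ht
      rw [(hcw t ht).eq, mul_inv_cancel_right]; exact ht
    · intro ht
      have h := hcw _ ht
      have : w * t * w⁻¹ = t := by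
        have h2 : w⁻¹ * (w * (w * t * w⁻¹)) * w = w⁻¹ * (w * t * w⁻¹ * w) * w := by rw [h.eq]
        rw [mul_inv_eq_iff_eq_mul]
        simpa [mul_assoc] using h2
      rwa [this] at ht
  set R := Cor v K
  have hRA : A ≤ normalizer (R : Set Γ) := S.norm.trans (normalizer_le_cor v)
  have hXR : X ≤ normalizer (R : Set Γ) :=
    (hXK.trans inf_le_left).trans (le_normalizer.trans (normalizer_le_cor v))
  have hd : R ⊓ X = ⊥ := disjoint_iff.mp
    (IsPGroup.disjoint_of_ne v s hvs R X (cor_isPGroup v) (cor_isPGroup s))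
  have hfix : (R ⊔ X) ⊓ centralizer {e} = ⊥ := by
    rw [eq_bot_iff]
    rintro w ⟨hw, hwe⟩
    obtain ⟨r, hr, t, ht, rfl⟩ := (Coprime.mem_sup_of_le_normalizer hXR).mp hw
    have h1 : (e * r * e⁻¹) * (e * t * e⁻¹) = r * t := by
      calc (e * r * e⁻¹) * (e * t * e⁻¹) = e * (r * t) * e⁻¹ := by group
        _ = r * t := by rw [← (mem_cent.mp hwe).eq, mul_inv_cancel_right]
    have h2 : ((⟨e * r * e⁻¹, (mem_normalizer_iff.mp (hRA he) r).mp hr⟩ : R),
        (⟨e * t * e⁻¹, (mem_normalizer_iff.mp (hXA he) t).mp ht⟩ : X)) = ((⟨r, hr⟩ : R), ⟨t, ht⟩) :=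
      Subgroup.mul_injective_of_disjoint (disjoint_iff.mpr hd) h1
    have hre : Commute r e := (mul_inv_eq_iff_eq_mul.mp
      (congrArg (fun p : R × X => (p.1 : Γ)) h2)).symm
    have hte : Commute t e := (mul_inv_eq_iff_eq_mul.mp
      (congrArg (fun p : R × X => (p.2 : Γ)) h2)).symm
    rw [mem_bot, show r = 1 from by
        by_contra h
        exact hR r hr h hre,
      S.fpf_pair hc hc1 he hec (hXK ht).1 (mem_cent.mp (hXK ht).2) hte, one_mul]
  have hL : Group.IsNilpotent (R ⊔ X : Subgroup Γ) := Fusion.isNilpotent_of_fpf_prime S.hq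
    (S.expA e he) (Coprime.le_normalizer_sup hRA hXA he) hfix
  exact hzy (commute_of_isPGroup hL (Ne.symm hvs) (cor_isPGroup s) (cor_isPGroup v) le_sup_right
    le_sup_left y hyX z hz)

end Cfsg.Agent.AbCentFpf
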