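import Cfsg.Agent.AbCentFpf.Derived
import Cfsg.Agent.Coprime.Series

/-!
Auxiliary lemmas: Frobenius spanning inside a group, a bound for coprime actions with abelian image,
products in nilpotent groups.
-/

set_option autoImplicit false

open Subgroup
open scoped commutatorElement

namespace Cfsg.Agent.AbCentFpf

universe u

variable {Γ : Type u} [Group Γ] [Finite Γ]

/-- `le_of_frobenius` for an abelian subgroup `V` of `Γ`. -/
theorem frobenius_subgroup {V R X : Subgroup Γ} (hV : ∀ x ∈ V, ∀ y ∈ V, Commute x y) {q : ℕ}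
    (hq : q.Prime) {b : Γ} (hb : b ^ q = 1) (hbV : b ∈ normalizer (V : Set Γ))
    (hXV : X ≤ normalizer (V : Set Γ)) (hbX : ∀ x ∈ X, b * x * b⁻¹ ∈ X)
    (hfpf : ∀ x ∈ X, Commute x b → x = 1) (hcop : (Nat.card X).Coprime (Nat.card V))
    (hfix : ∀ v ∈ V, (∀ x ∈ X, Commute v x) → v = 1)
    (hR : ∀ x ∈ X, ∀ w ∈ V, Commute w b → x * w * x⁻¹ ∈ R) : V ≤ R := by
  let _ : CommGroup V :=
    { (inferInstance : Group V) with mul_comm := fun a b => Subtype.ext (hV _ a.2 _ b.2).eq }
  set N := normalizer (V : Set Γ)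
  let ρ : N →* MulAut V := V.normalizerMonoidHom
  have hρ : ∀ (d : N) (v : V), ((ρ d v : V) : Γ) = (d : Γ) * v * (d : Γ)⁻¹ := fun d v => rfl
  have h := le_of_frobenius ρ hq (b := ⟨b, hbV⟩) (X := X.subgroupOf N) (Subtype.ext hb)
    (fun x hx => hbX _ hx) (fun x hx hxb => Subtype.ext (hfpf _ hx (congrArg Subtype.val hxb.eq)))
    (by rw [Coprime.card_subgroupOf hXV]; exact hcop) (U := (⊤ : Subgroup V)) (R := R.subgroupOf V)
    (fun _ _ _ _ => mem_top _) (fun _ _ => mem_top _) ?_ ?_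
  · exact fun v hv => h (mem_top ⟨v, hv⟩)
  · rw [top_inf_eq, eq_bot_iff]
    intro v hv
    refine mem_bot.mpr (Subtype.ext (hfix _ v.2 fun x hx => ?_))
    have h2 := congrArg Subtype.val (hv ⟨x, hXV hx⟩ hx)
    rw [hρ] at h2
    exact (mul_inv_eq_iff_eq_mul.mp h2).symm
  · intro x hx w _ hw
    have h2 := congrArg Subtype.val hw
    rw [hρ] at h2
    rw [mem_subgroupOf, hρ]
    exact hR _ hx _ w.2 (mul_inv_eq_iff_eq_mul.mp h2).symm

/-- A coprime operator trivial on `N` and on `W` modulo `N` is trivial on `W`. -/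
theorem commute_of_series {W N : Subgroup Γ} (hN : N ≤ W) {d : Γ} (hcop : (orderOf d).Coprime (Nat.card W))
    (hdN : ∀ n ∈ N, Commute d n) (hdW : ∀ w ∈ W, w⁻¹ * (d * w * d⁻¹) ∈ N) :
    d ∈ centralizer (W : Set Γ) := by
  have hB : zpowers d ≤ centralizer (N : Set Γ) :=
    zpowers_le.mpr (mem_centralizer_iff.mpr fun n hn => (hdN n hn).eq.symm)
  let T : Subgroup Γ := zpowers d
  rw [mem_centralizer_iff]
  intro w hw
  have hk : ∀ a ∈ T, w⁻¹ * (a * w * a⁻¹) ∈ N := by
    have hfix : ∀ a ∈ T, ∀ n ∈ N, a * n * a⁻¹ = n := fun a ha n hn => by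
      rw [← mem_centralizer_iff.mp (hB ha) n hn, mul_inv_cancel_right]
    let U : Subgroup Γ :=
      { carrier := {a | a ∈ T ∧ w⁻¹ * (a * w * a⁻¹) ∈ N}
        one_mem' := ⟨one_mem _, by simp⟩
        mul_mem' := fun {a b} ha hb => ⟨mul_mem ha.1 hb.1, by
          have e : w⁻¹ * (a * b * w * (a * b)⁻¹) =
              (w⁻¹ * (a * w * a⁻¹)) * (a * (w⁻¹ * (b * w * b⁻¹)) * a⁻¹) := by group
          rw [e, hfix a ha.1 _ hb.2]
          exact N.mul_mem ha.2 hb.2⟩
        inv_mem' := fun {a} ha => ⟨inv_mem ha.1, by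
          have e : w⁻¹ * (a⁻¹ * w * a⁻¹⁻¹) = a⁻¹ * (w⁻¹ * (a * w * a⁻¹))⁻¹ * a⁻¹⁻¹ := by group
          rw [e, hfix _ (inv_mem ha.1) _ (inv_mem ha.2)]
          exact inv_mem ha.2⟩ }
    exact fun a ha => ((zpowers_le.mpr (show d ∈ U from ⟨mem_zpowers d, hdW w hw⟩)) ha).2
  obtain ⟨n, hn, hc⟩ := Coprime.exists_fixed_mem_leftCoset (A := T) (N := N)
    (hB.trans (centralizer_le_normalizer _))
    (by rw [Nat.card_zpowers]; exact hcop.coprime_dvd_right (card_dvd_of_le hN))
    (Or.inl (Group.isSolvable_of_comm fun a b => mul_comm' a b)) (k := w) hk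
  have h1 : Commute d (w * n) := (mem_centralizer_iff.mp hc d (mem_zpowers d))
  have h2 := h1.mul_right (hdN n hn).inv_right
  rw [mul_inv_cancel_right] at h2
  exact h2.eq.symm

/-- The centraliser of `W` in `C` has index at most that of the centraliser of the image of `W`. -/
theorem relIndex_le_quotient {Γ' : Type*} [Group Γ'] [Finite Γ'] (f : Γ →* Γ') {C W : Subgroup Γ}
    (hcop : (Nat.card C).Coprime (Nat.card W))
    (hCN : C ≤ centralizer ((W ⊓ f.ker : Subgroup Γ) : Set Γ)) (hCW : C ≤ normalizer (W : Set Γ)) :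
    (C ⊓ centralizer (W : Set Γ)).relIndex C ≤
      (C.map f ⊓ centralizer ((W.map f : Subgroup Γ') : Set Γ')).relIndex (C.map f) := by
  set φ := f.subgroupMap C
  set T := (C.map f ⊓ centralizer ((W.map f : Subgroup Γ') : Set Γ')).subgroupOf (C.map f)
  have hidx : (T.comap φ).index = T.index := index_comap_of_surjective T (f.subgroupMap_surjective C)
  have hle : T.comap φ ≤ (C ⊓ centralizer (W : Set Γ)).subgroupOf C := by
    intro d hd
    refine ⟨d.2, commute_of_series inf_le_left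
      (hcop.coprime_dvd_left (Subgroup.orderOf_dvd_natCard C d.2))
      (fun n hn => (mem_centralizer_iff.mp (hCN d.2) n hn).symm) fun w hw => ⟨?_, ?_⟩⟩
    · exact W.mul_mem (W.inv_mem hw) ((mem_normalizer_iff.mp (hCW d.2) w).mp hw)
    · have h1 : f w * f (d : Γ) = f (d : Γ) * f w :=
        mem_centralizer_iff.mp (mem_subgroupOf.mp (show φ d ∈ T from hd)).2 _ (mem_map_of_mem f hw)
      change w⁻¹ * ((d : Γ) * w * (d : Γ)⁻¹) ∈ f.ker
      rw [MonoidHom.mem_ker, map_mul, map_mul, map_mul, map_inv, map_inv, ← h1]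
      simp
  change _ ≤ T.index
  rw [← hidx]
  exact Nat.le_of_dvd (Nat.pos_of_ne_zero index_ne_zero_of_finite) (index_dvd_of_le hle)

theorem relIndex_lt_card_aux : ∀ n : ℕ, ∀ {Γ : Type u} [Group Γ] [Finite Γ] {Y W : Subgroup Γ},
    Group.IsNilpotent W → W ≠ ⊥ → Y ≤ normalizer (W : Set Γ) →
    (Nat.card Y).Coprime (Nat.card W) → Group.IsSolvable Y →
    ⁅Y, Y⁆ ≤ centralizer (W : Set Γ) → Nat.card W ≤ n →
    (Y ⊓ centralizer (W : Set Γ)).relIndex Y < Nat.card W := by
  intro n
  induction n with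
  | zero => intro Γ _ _ Y W _ _ _ _ _ _ h; exact absurd h (by have := Nat.card_pos (α := W); omega)
  | succ n ih =>
    intro Γ _ _ Y W hW hW1 hYW hcop hYs hY' hn
    set Z := W ⊓ centralizer (W : Set Γ)
    have hZ1 : Z ≠ ⊥ := by
      intro h
      by_cases hab : ⁅W, W⁆ = ⊥
      · exact hW1 (eq_bot_iff.mpr fun x hx => h ▸ (⟨hx, commutator_eq_bot_iff_le_centralizer.mp hab hx⟩ : x ∈ Z))
      · exact exists_lcs_centralized hW hab (eq_bot_iff.mpr (h ▸ inf_le_inf_right _ (commutator_le_self W)))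
    have hZY : Y ≤ normalizer (Z : Set Γ) :=
      Coprime.le_normalizer_inf hYW (Coprime.le_normalizer_centralizer hYW)
    obtain ⟨N, ⟨hNZ, hN1, hNY, -⟩, hmin⟩ :
        ∃ N : Subgroup Γ, (N ≤ Z ∧ N ≠ ⊥ ∧ Y ≤ normalizer (N : Set Γ) ∧ True) ∧
          ∀ M : Subgroup Γ, M ≤ N → Y ≤ normalizer (M : Set Γ) → M = ⊥ ∨ M = N := by
      obtain ⟨N, hN, hmin⟩ := wellFounded_lt.has_min
        {N : Subgroup Γ | N ≤ Z ∧ N ≠ ⊥ ∧ Y ≤ normalizer (N : Set Γ) ∧ True}
        ⟨Z, le_rfl, hZ1, hZY, trivial⟩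
      refine ⟨N, hN, fun M hM hMY => ?_⟩
      by_contra h
      push Not at h
      exact hmin M ⟨hM.trans hN.1, h.1, hMY, trivial⟩ (lt_of_le_of_ne hM h.2)
    have hNW : N ≤ W := hNZ.trans inf_le_left
    have hNc : ∀ x ∈ N, ∀ y ∈ N, Commute x y := fun x hx y hy =>
      (mem_centralizer_iff.mp (hNZ hx).2 y (hNW hy)).symm
    obtain ⟨v, hv, hv1⟩ : ∃ v ∈ N, v ≠ 1 := by
      by_contra h
      push Not at h
      exact hN1 (eq_bot_iff.mpr fun x hx => mem_bot.mpr (h x hx))
    set C1 := Y ⊓ centralizer (N : Set Γ)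
    -- the stabiliser of `v` centralises `N`
    have hstab : Y ⊓ centralizer ({v} : Set Γ) = C1 := by
      refine le_antisymm (le_inf inf_le_left ?_) (inf_le_inf_left _ (centralizer_le (by simpa using hv)))
      set S := Y ⊓ centralizer ({v} : Set Γ)
      have hnorm : ∀ y ∈ Y, ∀ w ∈ N ⊓ centralizer (S : Set Γ),
          y * w * y⁻¹ ∈ N ⊓ centralizer (S : Set Γ) := by
        intro y hy w hw
        refine ⟨(mem_normalizer_iff.mp (hNY hy) w).mp hw.1, mem_centralizer_iff.mpr fun s hs => ?_⟩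
        have hc : ⁅y⁻¹, s⁆ ∈ centralizer (W : Set Γ) :=
          hY' (commutator_mem_commutator (inv_mem hy) hs.1)
        have h1 : Commute ⁅y⁻¹, s⁆ w := (mem_centralizer_iff.mp hc w (hNW hw.1)).symm
        have h2 : Commute s w := mem_centralizer_iff.mp hw.2 s hs
        have h3 : Commute (y⁻¹ * s * y) w := by
          have : y⁻¹ * s * y = ⁅y⁻¹, s⁆ * s := by simp [commutatorElement_def, mul_assoc]
          rw [this]
          exact h1.mul_left h2
        have := congrArg (fun t => y * t * y⁻¹) h3.eq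
        simpa [mul_assoc] using this
      have hYn : Y ≤ normalizer ((N ⊓ centralizer (S : Set Γ) : Subgroup Γ) : Set Γ) := by
        intro y hy
        rw [mem_normalizer_iff]
        refine fun w => ⟨hnorm y hy w, fun hw => ?_⟩
        have := hnorm y⁻¹ (inv_mem hy) _ hw
        simpa [mul_assoc] using this
      rcases hmin _ inf_le_left hYn with h | h
      · exact absurd (mem_bot.mp (h ▸ (⟨hv, mem_centralizer_iff.mpr fun s hs => mem_cent.mp hs.2⟩ :
          v ∈ N ⊓ centralizer (S : Set Γ)))) hv1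
      · exact Subgroup.le_centralizer_iff.mp (h ▸ inf_le_right)
    have hidx : C1.relIndex Y < Nat.card N := by
      classical
      rw [← hstab]
      let φ : Y ⧸ (Y ⊓ centralizer ({v} : Set Γ)).subgroupOf Y → {w : N // w ≠ 1} :=
        Quotient.lift (fun y : Y => ⟨⟨(y : Γ) * v * (y : Γ)⁻¹, (mem_normalizer_iff.mp (hNY y.2) v).mp hv⟩,
          fun h => hv1 (conj_eq_one_iff.mp (congrArg Subtype.val h))⟩) (by
            intro a b hab
            have h : Commute ((a : Γ)⁻¹ * b) v := mem_cent.mp (QuotientGroup.leftRel_apply.mp hab).2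
            refine Subtype.ext (Subtype.ext ?_)
            have h' := congrArg (fun t => (a : Γ) * t * (b : Γ)⁻¹) h.eq
            simpa [mul_assoc] using h'.symm)
      have hφ : Function.Injective φ := by
        intro a b
        induction a using Quotient.inductionOn' with | h a => ?_
        induction b using Quotient.inductionOn' with | h b => ?_
        intro h
        refine Quotient.sound' (QuotientGroup.leftRel_apply.mpr ⟨(inv_mem a.2 |> fun h => Y.mul_mem h b.2), ?_⟩)
        have h' : (a : Γ) * v * (a : Γ)⁻¹ = (b : Γ) * v * (b : Γ)⁻¹ :=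
          congrArg (fun w : {w : N // w ≠ 1} => ((w : N) : Γ)) h
        refine mem_cent.mpr ?_
        have h'' := congrArg (fun t => (a : Γ)⁻¹ * t * (b : Γ)) h'
        simpa [Commute, SemiconjBy, mul_assoc] using h''.symm
      have hle := Nat.card_le_card_of_injective φ hφ
      have hlt : Nat.card {w : N // w ≠ 1} < Nat.card N := by
        let _ := Fintype.ofFinite N
        rw [Nat.card_eq_fintype_card, Nat.card_eq_fintype_card]
        exact Fintype.card_subtype_lt (x := 1) (by simp)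
      exact hle.trans_lt hlt
    set C2 := Y ⊓ centralizer (W : Set Γ)
    have hC21 : C2 ≤ C1 := inf_le_inf_left _ (centralizer_le hNW)
    rw [← relIndex_mul_relIndex C2 C1 Y hC21 inf_le_left]
    by_cases hNeq : N = W
    · have : C2 = C1 := by rw [show C2 = C1 from by simp only [C2, C1, hNeq]]
      rw [this, relIndex_self, one_mul, ← hNeq]
      exact hidx
    -- pass to the quotient by `N`
    set Δ := normalizer (N : Set Γ)
    have hWΔ : W ≤ Δ := fun w hw => centralizer_le_normalizer _ (mem_centralizer_iff.mpr fun n hn =>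
      (mem_centralizer_iff.mp (hNZ hn).2 w hw).symm)
    have hC1Δ : C1 ≤ Δ := inf_le_left.trans hNY
    have hNn : (N.subgroupOf Δ).Normal := normal_in_normalizer
    set μ := QuotientGroup.mk' (N.subgroupOf Δ)
    set W' := (W.subgroupOf Δ).map μ
    set Y' := (C1.subgroupOf Δ).map μ
    have hW'ne : W' ≠ ⊥ := by
      intro h
      refine hNeq (le_antisymm hNW fun w hw => ?_)
      have h0 : μ ⟨w, hWΔ hw⟩ ∈ W' :=
        mem_map_of_mem μ (show (⟨w, hWΔ hw⟩ : Δ) ∈ W.subgroupOf Δ from hw)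
      have := mem_bot.mp (h ▸ h0)
      exact (QuotientGroup.eq_one_iff (⟨w, hWΔ hw⟩ : Δ)).mp this
    have hlt : Nat.card W' ≤ n := by
      have h := FixedPointFree.card_map_quotient_lt (L := W.subgroupOf Δ) (V := N.subgroupOf Δ)
        (fun x hx => hNW hx)
        (fun h => hN1 (by rw [← map_subgroupOf_eq_of_le (hNW.trans hWΔ), h, Subgroup.map_bot]))
      rw [Coprime.card_subgroupOf hWΔ] at h
      exact Nat.lt_succ_iff.mp (h.trans_le hn)
    have hn' : C1.subgroupOf Δ ≤ normalizer ((W.subgroupOf Δ : Subgroup Δ) : Set Δ) := by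
      intro x hx
      rw [mem_normalizer_iff]
      intro w
      exact mem_normalizer_iff.mp (hYW hx.1) (w : Γ)
    have hq := ih (Y := Y') (W := W')
      (Core.isNilpotent_map ((Group.isNilpotent_congr (subgroupOfEquivOfLe hWΔ)).mpr hW) μ) hW'ne
      ((map_mono hn').trans (le_normalizer_map μ))
      (((hcop.coprime_dvd_left (card_dvd_of_le (inf_le_left : C1 ≤ Y))).coprime_dvd_left
        ((card_map_dvd _ μ).trans (by rw [Coprime.card_subgroupOf hC1Δ]))).coprime_dvd_right
        ((card_map_dvd _ μ).trans (by rw [Coprime.card_subgroupOf hWΔ])))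
      (Core.isSolvable_map (Coprime.isSolvable_subgroupOf Δ (Core.isSolvable_mono hYs inf_le_left)) μ)
      ?_ hlt
    · have hker : W.subgroupOf Δ ⊓ μ.ker = N.subgroupOf Δ := by
        rw [QuotientGroup.ker_mk']
        exact inf_eq_right.mpr fun x hx => hNW hx
      have hC : C1.subgroupOf Δ ≤
          centralizer ((W.subgroupOf Δ ⊓ μ.ker : Subgroup Δ) : Set Δ) := by
        rw [hker]
        intro x hx
        rw [mem_centralizer_iff]
        exact fun y hy => Subtype.ext (mem_centralizer_iff.mp hx.2 (y : Γ) hy)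
      have hb1 := relIndex_le_quotient μ (C := C1.subgroupOf Δ) (W := W.subgroupOf Δ)
        (by
          rw [Coprime.card_subgroupOf hC1Δ, Coprime.card_subgroupOf hWΔ]
          exact hcop.coprime_dvd_left (card_dvd_of_le inf_le_left))
        hC hn'
      have e2 : C1.subgroupOf Δ ⊓ centralizer ((W.subgroupOf Δ : Subgroup Δ) : Set Δ) =
          C2.subgroupOf Δ := by
        ext x
        simp only [mem_inf, mem_subgroupOf, mem_centralizer_iff, C2, C1]
        constructor
        · exact fun h => ⟨h.1.1, fun w hw => congrArg Subtype.val (h.2 ⟨w, hWΔ hw⟩ hw)⟩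
        · exact fun h => ⟨⟨h.1, fun n hn => h.2 n (hNW hn)⟩, fun w hw => Subtype.ext (h.2 _ hw)⟩
      rw [e2, relIndex_subgroupOf hC1Δ] at hb1
      have hcard : Nat.card W' * Nat.card N = Nat.card W := by
        have h1 := (μ.subgroupMap (W.subgroupOf Δ)).ker.card_mul_index
        rw [index_ker, MonoidHom.range_eq_top.mpr (μ.subgroupMap_surjective _), card_top] at h1
        have h2 : (μ.subgroupMap (W.subgroupOf Δ)).ker = (N.subgroupOf Δ).subgroupOf (W.subgroupOf Δ) := by
          ext x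
          exact Subtype.ext_iff.trans (QuotientGroup.eq_one_iff (N := N.subgroupOf Δ) (x : Δ))
        rw [h2, Coprime.card_subgroupOf (show N.subgroupOf Δ ≤ W.subgroupOf Δ from fun x hx => hNW hx),
          Coprime.card_subgroupOf (hNW.trans hWΔ), Coprime.card_subgroupOf hWΔ, mul_comm] at h1
        exact h1
      rw [← hcard]
      exact Nat.mul_lt_mul_of_lt_of_le' (hb1.trans_lt hq) hidx.le Nat.card_pos
    · rw [← map_commutator]
      rintro _ ⟨x, hx, rfl⟩
      rw [mem_centralizer_iff]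
      rintro _ ⟨w, hw, rfl⟩
      rw [← map_mul, ← map_mul]
      refine congrArg μ (Subtype.ext ?_)
      have hxc : (x : Γ) ∈ ⁅Y, Y⁆ := by
        have h : (⁅C1.subgroupOf Δ, C1.subgroupOf Δ⁆ : Subgroup Δ).map Δ.subtype ≤ ⁅Y, Y⁆ := by
          rw [map_commutator, map_subgroupOf_eq_of_le hC1Δ]
          exact commutator_mono inf_le_left inf_le_left
        exact h (mem_map_of_mem Δ.subtype hx)
      exact mem_centralizer_iff.mp (hY' hxc) (w : Γ) hw

/-- A coprime action with abelian image on a nilpotent group has fewer operators than points. -/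
theorem relIndex_lt_card {Y W : Subgroup Γ} (hW : Group.IsNilpotent W) (h1 : W ≠ ⊥)
    (hYW : Y ≤ normalizer (W : Set Γ)) (hcop : (Nat.card Y).Coprime (Nat.card W))
    (hYs : Group.IsSolvable Y) (hY' : ⁅Y, Y⁆ ≤ centralizer (W : Set Γ)) :
    (Y ⊓ centralizer (W : Set Γ)).relIndex Y < Nat.card W :=
  relIndex_lt_card_aux _ hW h1 hYW hcop hYs hY' le_rfl

variable {q : ℕ} {A K : Subgroup Γ}

/-- In a nilpotent group, the fixed points of all lines but that of `c` and those of `c` multiply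
to everything. -/
theorem Base.exists_mul (S : Base q A K) {P S' : Subgroup Γ} (hPK : P ≤ K)
    (hP : Group.IsNilpotent P) (hPA : A ≤ normalizer (P : Set Γ)) {c : Γ} (hc : c ∈ A)
    (hS' : ∀ e ∈ A, e ∉ zpowers c → ∀ x ∈ P, Commute x e → x ∈ S') {x : Γ} (hx : x ∈ P) :
    ∃ s ∈ S', ∃ k ∈ P, Commute k c ∧ x = s * k := by
  set Z : ℕ → Subgroup Γ := fun i => (Subgroup.upperCentralSeries P i).map P.subtype
  have hZP : ∀ i, Z i ≤ P := fun i => map_subtype_le _
  have hZA : ∀ i, A ≤ normalizer (Z i : Set Γ) := fun i => hPA.trans (normalizer_le_map_char _)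
  have key : ∀ i, ∀ z ∈ Z i, ∃ s ∈ Z i, s ∈ S' ∧ ∃ k ∈ Z i, Commute k c ∧ z = s * k := by
    intro i
    induction i with
    | zero =>
      intro z hz
      have : z = 1 := by simpa [Z] using hz
      exact ⟨1, one_mem _, one_mem _, 1, one_mem _, Commute.one_left c, by simp [this]⟩
    | succ i ih =>
      have hmono : Z i ≤ Z (i + 1) := map_mono (Subgroup.upperCentralSeries_mono P (Nat.le_succ i))
      have hcomm : ∀ a ∈ Z (i + 1), ∀ b ∈ P, ⁅a, b⁆ ∈ Z i := by
        rintro _ ⟨a, ha, rfl⟩ b hb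
        exact ⟨_, (Subgroup.mem_upperCentralSeries_succ_iff.mp ha) ⟨b, hb⟩, by simp [commutatorElement_def]⟩
      let T : Set Γ := {z | ∃ s ∈ Z (i + 1), s ∈ S' ∧ ∃ k ∈ Z (i + 1), Commute k c ∧ z = s * k}
      have hmul : ∀ a ∈ T, ∀ b ∈ T, a * b ∈ T := by
        rintro _ ⟨s₁, hs₁, hs₁', k₁, hk₁, hk₁', rfl⟩ _ ⟨s₂, hs₂, hs₂', k₂, hk₂, hk₂', rfl⟩
        have hw : ⁅k₁, s₂⁻¹⁆⁻¹ ∈ Z i := inv_mem (hcomm _ hk₁ _ (hZP _ (inv_mem hs₂)))
        obtain ⟨s, hs, hs', k, hk, hk', he⟩ := ih _ hw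
        refine ⟨s₁ * s₂ * s, mul_mem (mul_mem hs₁ hs₂) (hmono hs), mul_mem (mul_mem hs₁' hs₂') hs',
          k * k₁ * k₂, mul_mem (mul_mem (hmono hk) hk₁) hk₂, (hk'.mul_left hk₁').mul_left hk₂', ?_⟩
        have : s₂⁻¹ * k₁ * s₂ = ⁅k₁, s₂⁻¹⁆⁻¹ * k₁ := by simp [commutatorElement_def, mul_assoc]
        calc s₁ * k₁ * (s₂ * k₂) = s₁ * s₂ * (s₂⁻¹ * k₁ * s₂) * k₂ := by group
          _ = s₁ * s₂ * (s * k * k₁) * k₂ := by rw [this, he]
          _ = s₁ * s₂ * s * (k * k₁ * k₂) := by group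
      have hone : (1 : Γ) ∈ T := ⟨1, one_mem _, one_mem _, 1, one_mem _, Commute.one_left c, by simp⟩
      let W : Subgroup Γ :=
        { carrier := T
          one_mem' := hone
          mul_mem' := fun ha hb => hmul _ ha _ hb
          inv_mem' := fun {a} ha => by
            have hpow : ∀ n : ℕ, a ^ n ∈ T := fun n => by
              induction n with
              | zero => simpa using hone
              | succ n ih' => rw [pow_succ]; exact hmul _ ih' _ ha
            have hfin := isOfFinOrder_of_finite a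
            have : a⁻¹ = a ^ (orderOf a - 1) := by
              refine inv_eq_of_mul_eq_one_right ?_
              rw [← pow_succ', Nat.sub_add_cancel hfin.orderOf_pos, pow_orderOf_eq_one]
            rw [this]; exact hpow _ }
      refine fun z hz => (S.generate (W := W) ((hZP _).trans hPK) (hZA _) (fun a ha ha1 y hy hya => ?_) hz)
      by_cases hac : a ∈ zpowers c
      · exact ⟨1, one_mem _, one_mem _, y, hy, (S.commute_line hc hac ha1).mp hya, (one_mul y).symm⟩
      · exact ⟨y, hy, hS' a ha hac y (hZP _ hy) hya, 1, one_mem _, Commute.one_left c, (mul_one y).symm⟩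
  have := hP
  have hxtop : x ∈ Z (Group.nilpotencyClass (G := P)) := by
    simp only [Z, Subgroup.upperCentralSeries_nilpotencyClass]
    exact ⟨⟨x, hx⟩, trivial, rfl⟩
  obtain ⟨s, -, hs, k, hk, hkc, he⟩ := key _ x hxtop
  exact ⟨s, hs, k, hZP _ hk, hkc, he⟩

omit [Finite Γ] in
/-- Normalizer condition. -/
theorem eq_of_inf_normalizer_le {N X : Subgroup Γ} (hN : Group.IsNilpotent N) (hXN : X ≤ N)
    (h : N ⊓ normalizer (X : Set Γ) ≤ X) : X = N := by
  refine le_antisymm hXN ?_
  rw [← subgroupOf_eq_top]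
  by_contra hne
  obtain ⟨y, hy, hyn⟩ := SetLike.exists_of_lt
    (Group.normalizerCondition_of_isNilpotent (G := N) (X.subgroupOf N) (lt_top_iff_ne_top.mpr hne))
  refine hyn (h ⟨y.2, mem_normalizer_iff.mpr ?_⟩)
  intro z
  constructor
  · intro hz
    exact (mem_normalizer_iff.mp hy ⟨z, hXN hz⟩).mp hz
  · intro hz
    have hzN : z ∈ N := by
      have h1 : (y : Γ) * z * (y : Γ)⁻¹ ∈ N := hXN hz
      simpa [mul_assoc] using N.mul_mem (N.mul_mem (N.inv_mem y.2) h1) y.2
    exact (mem_normalizer_iff.mp hy ⟨z, hzN⟩).mpr hz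

end Cfsg.Agent.AbCentFpf
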