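import Cfsg.Agent.AbCentFpf.Bender
import Cfsg.Agent.CentLarge.Basic
import Cfsg.Agent.Fusion.ThompsonComplement

/-!
A group admitting a coprime noncyclic group of order `q²` of automorphisms with abelian
centralisers of its non-identity elements is solvable.
-/

set_option autoImplicit false

open Subgroup
open scoped commutatorElement Pointwise

namespace Cfsg.Agent.AbCentFpf

universe u

variable {Γ : Type u} [Group Γ] [Finite Γ] {q : ℕ} {A G : Subgroup Γ}

/-- The unique invariant Sylow subgroup. -/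
theorem Setup.exists_sylow (S : Setup q A G) {s : ℕ} (hs : s.Prime) :
    ∃ P : Subgroup Γ, P ≤ G ∧ A ≤ normalizer (P : Set Γ) ∧ IsPGroup s P ∧
      ∀ U : Subgroup Γ, U ≤ G → A ≤ normalizer (U : Set Γ) → IsPGroup s U → U ≤ P := by
  have := Fact.mk hs
  have hcop := S.toBase.coprime_card (le_refl G)
  have hsolv : Group.IsSolvable A ∨ Group.IsSolvable G := Or.inl S.toBase.solvA
  obtain ⟨P, hP⟩ := Coprime.exists_invariant_sylow S.norm hcop hsolv s
  refine ⟨(P : Subgroup G).map G.subtype, map_subtype_le _, hP, P.isPGroup'.map _, fun U hU hUA hUp => ?_⟩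
  obtain ⟨Q, hUQ, hQA⟩ := Coprime.exists_le_invariant_sylow S.norm hcop hsolv hU hUp hUA
  obtain ⟨c, hc, hcPQ⟩ := Coprime.exists_centralizer_conj_sylow S.norm hcop hsolv P Q hP hQA
  have hc1 : c = 1 := Subtype.ext (S.fpf c c.2 fun a ha => (mem_centralizer_iff.mp hc a ha).symm)
  rw [hc1, map_one, one_smul] at hcPQ
  rw [hcPQ]; exact hUQ

theorem Setup.card_inf_sylow (S : Setup q A G) {s : ℕ} [hs : Fact s.Prime] {P H : Subgroup Γ}
    (hPp : IsPGroup s P) (hPA : A ≤ normalizer (P : Set Γ))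
    (hmax : ∀ U : Subgroup Γ, U ≤ G → A ≤ normalizer (U : Set Γ) → IsPGroup s U → U ≤ P)
    (hH : H ≤ G) (hHA : A ≤ normalizer (H : Set Γ)) :
    Nat.card (P ⊓ H : Subgroup Γ) = s ^ (Nat.card H).factorization s := by
  obtain ⟨Q, hQ⟩ := Coprime.exists_invariant_sylow hHA (S.toBase.coprime_card hH)
    (Or.inl S.toBase.solvA) s
  have hle : (Q : Subgroup H).map H.subtype ≤ P :=
    hmax _ ((map_subtype_le _).trans hH) hQ (Q.isPGroup'.map _)
  have hcard := Q.card_eq_multiplicity
  obtain ⟨n, hn⟩ := IsPGroup.iff_card.mp (hPp.to_le (inf_le_left : P ⊓ H ≤ P))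
  have h1 : Nat.card ((Q : Subgroup H).map H.subtype) ∣ Nat.card (P ⊓ H : Subgroup Γ) :=
    card_dvd_of_le (le_inf hle (map_subtype_le _))
  rw [card_map_of_injective H.subtype_injective, hcard, hn] at h1
  rw [hn]
  refine congrArg (s ^ ·) (le_antisymm ?_ ((Nat.pow_dvd_pow_iff_le_right hs.out.one_lt).mp h1))
  exact (hs.out.pow_dvd_iff_le_factorization Nat.card_pos.ne').mp
    (hn ▸ card_dvd_of_le inf_le_right)

/-- A proper invariant subgroup cannot contain the centralisers of all lines but one and meet the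
remaining one. -/
theorem Min.no_cover (S : Min q A G) {M : Subgroup Γ} (hMG : M ≤ G) (hne : M ≠ G)
    (hMA : A ≤ normalizer (M : Set Γ)) {c : Γ} (hc : c ∈ A) (hc1 : c ≠ 1)
    (hall : ∀ e ∈ A, e ∉ zpowers c → ∀ x ∈ G, Commute x e → x ∈ M)
    (hMc : ∃ x ∈ M, x ≠ 1 ∧ Commute x c) : False := by
  set Kc := G ⊓ centralizer ({c} : Set Γ)
  have hKA : A ≤ normalizer (Kc : Set Γ) :=
    Coprime.le_normalizer_inf S.norm (le_normalizer_cent_single S.toBase hc)
  have hKM : A ≤ normalizer ((M ⊓ Kc : Subgroup Γ) : Set Γ) := Coprime.le_normalizer_inf hMA hKA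
  have hdvd : Nat.card G * Nat.card (M ⊓ Kc : Subgroup Γ) = Nat.card M * Nat.card Kc := by
    refine Nat.eq_of_factorization_eq (Nat.mul_pos Nat.card_pos Nat.card_pos).ne'
      (Nat.mul_pos Nat.card_pos Nat.card_pos).ne' fun s => ?_
    by_cases hs : s.Prime
    swap
    · rw [Nat.factorization_eq_zero_of_not_prime _ hs, Nat.factorization_eq_zero_of_not_prime _ hs]
    have := Fact.mk hs
    obtain ⟨P, hPG, hPA, hPp, hmax⟩ := S.toSetup.exists_sylow hs
    rw [Nat.factorization_mul Nat.card_pos.ne' Nat.card_pos.ne',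
      Nat.factorization_mul Nat.card_pos.ne' Nat.card_pos.ne', Finsupp.add_apply, Finsupp.add_apply]
    refine Nat.pow_right_injective hs.two_le ?_
    dsimp only
    rw [pow_add, pow_add, ← S.toSetup.card_inf_sylow hPp hPA hmax le_rfl S.norm,
      ← S.toSetup.card_inf_sylow hPp hPA hmax (inf_le_left.trans hMG) hKM,
      ← S.toSetup.card_inf_sylow hPp hPA hmax hMG hMA,
      ← S.toSetup.card_inf_sylow hPp hPA hmax (inf_le_left : Kc ≤ G) hKA]
    rw [inf_eq_left.mpr hPG]
    set S' := P ⊓ M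
    set Pc := P ⊓ Kc
    have hinf : P ⊓ (M ⊓ Kc) = S' ⊓ Pc := by simp only [S', Pc]; rw [inf_inf_distrib_left]
    rw [hinf]
    have heq : (P : Set Γ) = (S' : Set Γ) * (Pc : Set Γ) := by
      refine subset_antisymm (fun x hx => ?_) ?_
      · obtain ⟨s', hs', k, hk, hkc, rfl⟩ := S.toBase.exists_mul hPG hPp.isNilpotent hPA hc
          (S' := P ⊓ M) (fun e he hec y hy hye => ⟨hy, hall e he hec y (hPG hy) hye⟩) hx
        exact Set.mul_mem_mul hs' ⟨hk, hPG hk, mem_cent.mpr hkc⟩
      · rintro _ ⟨a, ha, b, hb, rfl⟩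
        exact P.mul_mem ha.1 hb.1
    rw [← CentLarge.card_mul_card_inf S' Pc, ← heq]
    rfl
  -- so `G = M Kc`
  have hprod : ((M : Set Γ) * (Kc : Set Γ)) = (G : Set Γ) := by
    refine Set.eq_of_subset_of_ncard_le ?_ ?_ (Set.toFinite _)
    · rintro _ ⟨a, ha, b, hb, rfl⟩
      exact G.mul_mem (hMG ha) hb.1
    · rw [← Nat.card_coe_set_eq, ← Nat.card_coe_set_eq]
      have h := CentLarge.card_mul_card_inf M Kc
      rw [← hdvd] at h
      exact le_of_eq (Nat.eq_of_mul_eq_mul_right Nat.card_pos h).symm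
  obtain ⟨x, hxM, hx1, hxc⟩ := hMc
  let N : Subgroup Γ := ⨅ g : G, M.map (MulAut.conj (g : Γ)).toMonoidHom
  have hmemN : ∀ y, y ∈ N ↔ ∀ g ∈ G, g⁻¹ * y * g ∈ M := by
    intro y
    simp only [N, mem_iInf, Subtype.forall, mem_map_equiv, MulAut.conj_symm_apply]
  have hxN : x ∈ N := by
    rw [hmemN]
    intro g hg
    obtain ⟨m, hm, k, hk, he⟩ := (hprod.ge (G.inv_mem hg) : g⁻¹ ∈ (M : Set Γ) * (Kc : Set Γ))
    have hg' : g = k⁻¹ * m⁻¹ := by
      rw [← inv_inv g, ← he, mul_inv_rev]
    have hkx : Commute x k := S.ab c hc hc1 x (hMG hxM) k hk.1 hxc (mem_cent.mp hk.2)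
    rw [hg', show (k⁻¹ * m⁻¹)⁻¹ * x * (k⁻¹ * m⁻¹) = m * (k * x * k⁻¹) * m⁻¹ by group,
      hkx.symm.eq, mul_inv_cancel_right]
    exact M.mul_mem (M.mul_mem hm hxM) (M.inv_mem hm)
  have hNM : N ≤ M := fun y hy => by simpa using (hmemN y).mp hy 1 G.one_mem
  have hGN : G ≤ normalizer (N : Set Γ) := by
    intro g hg
    rw [mem_normalizer_iff]
    intro y
    rw [hmemN, hmemN]
    constructor
    · intro h t ht
      have := h (g⁻¹ * t) (G.mul_mem (G.inv_mem hg) ht)
      simpa [mul_assoc] using this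
    · intro h t ht
      have := h (g * t) (G.mul_mem hg ht)
      simpa [mul_assoc] using this
  have hAN : A ≤ normalizer (N : Set Γ) := by
    have key : ∀ a ∈ A, ∀ y ∈ N, a * y * a⁻¹ ∈ N := by
      intro a ha y hy
      rw [hmemN] at hy ⊢
      intro t ht
      have := (mem_normalizer_iff.mp (hMA ha) _).mp
        (hy (a⁻¹ * t * a) ((mem_normalizer_iff''.mp (S.norm ha) t).mp ht))
      simpa [mul_assoc] using this
    intro a ha
    rw [mem_normalizer_iff]
    refine fun y => ⟨key a ha y, fun hy => ?_⟩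
    have := key a⁻¹ (A.inv_mem ha) _ hy
    simpa [mul_assoc] using this
  rcases S.simple N (hNM.trans hMG) hAN hGN with h | h
  · exact hx1 (mem_bot.mp (h ▸ hxN))
  · exact hne (le_antisymm hMG (h ▸ hNM))

theorem map_normalizer_subtype (H : Subgroup G) :
    (normalizer (H : Set G)).map G.subtype = G ⊓ normalizer ((H.map G.subtype : Subgroup Γ) : Set Γ) := by
  ext x
  constructor
  · rintro ⟨y, hy, rfl⟩
    refine ⟨y.2, mem_normalizer_iff.mpr fun z => ⟨?_, ?_⟩⟩
    · rintro ⟨w, hw, rfl⟩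
      exact ⟨y * w * y⁻¹, (mem_normalizer_iff.mp hy w).mp hw, rfl⟩
    · rintro ⟨w, hw, e⟩
      refine ⟨y⁻¹ * w * y, (mem_normalizer_iff''.mp hy w).mp hw, ?_⟩
      simp only [map_mul, map_inv, e, Subgroup.coe_subtype]
      group
  · rintro ⟨hx, hxn⟩
    refine ⟨⟨x, hx⟩, mem_normalizer_iff.mpr fun z => ⟨fun hz => ?_, fun hz => ?_⟩, rfl⟩
    · obtain ⟨w, hw, e⟩ := (mem_normalizer_iff.mp hxn (z : Γ)).mp (mem_map_of_mem _ hz)
      exact (Subtype.ext e : w = ⟨x, hx⟩ * z * ⟨x, hx⟩⁻¹) ▸ hw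
    · obtain ⟨w, hw, e⟩ := (mem_normalizer_iff.mp hxn (z : Γ)).mpr (mem_map_of_mem G.subtype hz)
      exact (Subtype.ext e : w = z) ▸ hw

theorem map_centralizer_subtype (H : Subgroup G) :
    (centralizer (H : Set G)).map G.subtype = G ⊓ centralizer ((H.map G.subtype : Subgroup Γ) : Set Γ) := by
  ext x
  constructor
  · rintro ⟨y, hy, rfl⟩
    refine ⟨y.2, mem_centralizer_iff.mpr ?_⟩
    rintro _ ⟨w, hw, rfl⟩
    exact congrArg Subtype.val (mem_centralizer_iff.mp hy w hw)
  · rintro ⟨hx, hxc⟩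
    exact ⟨⟨x, hx⟩, mem_centralizer_iff.mpr fun w hw =>
      Subtype.ext (mem_centralizer_iff.mp hxc _ (mem_map_of_mem _ hw)), rfl⟩

/-- Some maximal invariant subgroup is not nilpotent (Thompson's complement theorem). -/
theorem Min.exists_not_nilpotent (S : Min q A G) : ∃ M, IsMax A G M ∧ ¬ Group.IsNilpotent M := by
  by_contra hno
  push Not at hno
  have hnil : ∀ H : Subgroup Γ, H ≤ G → H ≠ G → A ≤ normalizer (H : Set Γ) → Group.IsNilpotent H :=
    fun H h1 h2 h3 => by
      obtain ⟨M, hM, hle⟩ := exists_isMax h1 h2 h3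
      exact Core.isNilpotent_mono (hno M hM) hle
  obtain ⟨r, hr, hrd, hr2⟩ : ∃ r : ℕ, r.Prime ∧ r ∣ Nat.card G ∧ r ≠ 2 := by
    by_contra h
    push Not at h
    have hp : IsPGroup 2 G := IsPGroup.of_card (n := (Nat.card G).primeFactorsList.length)
      (Nat.eq_prime_pow_of_unique_prime_dvd Nat.card_pos.ne' fun hd hdvd => h _ hd hdvd)
    have := Fact.mk Nat.prime_two
    exact S.notSolv (by have := hp.isNilpotent; infer_instance)
  have := Fact.mk hr
  obtain ⟨P, hPA⟩ := Coprime.exists_invariant_sylow S.norm (S.toBase.coprime_card le_rfl)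
    (Or.inl S.toBase.solvA) r
  set PΓ := (P : Subgroup G).map G.subtype
  have hPG : PΓ ≤ G := map_subtype_le _
  have hPp : IsPGroup r PΓ := P.isPGroup'.map _
  have hP1 : (P : Subgroup G) ≠ ⊥ := P.ne_bot_of_dvd_card hrd
  have hPne : PΓ ≠ G := fun h => S.notSolv (by
    have := hPp
    rw [h] at this
    have := this.isNilpotent
    infer_instance)
  have hloc : ∀ X : Subgroup G, X ≤ (P : Subgroup G) → X ≠ ⊥ →
      A ≤ normalizer ((X.map G.subtype : Subgroup Γ) : Set Γ) →
      HasNormalPComplement r (normalizer (X : Set G)) ∧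
        HasNormalPComplement r (centralizer (X : Set G)) := by
    intro X hXP hX hXA
    set XΓ := X.map G.subtype
    have hN : G ⊓ normalizer (XΓ : Set Γ) ≠ G := by
      intro h
      rcases S.simple XΓ (map_subtype_le _) hXA (h.ge.trans inf_le_right) with h' | h'
      · exact hX ((map_eq_bot_iff_of_injective _ G.subtype_injective).mp h')
      · exact hPne (le_antisymm hPG (h'.ge.trans (map_mono hXP)))
    have hC : G ⊓ centralizer (XΓ : Set Γ) ≠ G := fun h =>
      hN (le_antisymm inf_le_left (le_inf le_rfl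
        (h.ge.trans (inf_le_right.trans (centralizer_le_normalizer _)))))
    refine ⟨Fusion.hasNormalPComplement_of_isNilpotent ?_, Fusion.hasNormalPComplement_of_isNilpotent ?_⟩
    · have h := hnil _ inf_le_left hN (Coprime.le_normalizer_inf S.norm (le_normalizer_norm hXA))
      rw [← map_normalizer_subtype] at h
      exact (Group.isNilpotent_congr (equivMapOfInjective _ G.subtype G.subtype_injective)).mpr h
    · have h := hnil _ inf_le_left hC (Coprime.le_normalizer_inf S.norm (le_normalizer_cent hXA))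
      rw [← map_centralizer_subtype] at h
      exact (Group.isNilpotent_congr (equivMapOfInjective _ G.subtype G.subtype_injective)).mpr h
  have hJ : (thompsonSubgroupOf r (P : Subgroup G)).map G.subtype = thompsonSubgroupOf r PΓ :=
    Thompson.thompsonOf_map_of_injective G.subtype_injective _
  have hcomp := Fusion.hasNormalPComplement_of_thompson hr2 P
    (hloc (thompsonSubgroupOf r (P : Subgroup G)) (map_subtype_le _)
      (Fusion.thompsonSubgroupOf_ne_bot P.isPGroup' hP1)
      (by rw [hJ]; exact fun a ha => Fusion.mem_normalizer_thompsonSubgroupOf (hPA ha))).1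
    (hloc _ inf_le_left (center_ne_bot P.isPGroup' hP1) (by
      rw [map_inf _ _ _ G.subtype_injective, map_centralizer_subtype]
      exact Coprime.le_normalizer_inf hPA
        (Coprime.le_normalizer_inf S.norm (le_normalizer_cent hPA)))).2
  obtain ⟨Q, N, hNn, hNc⟩ := hcomp
  have hNcop : (Nat.card N).Coprime r := by
    rw [← hNc.index_eq_card]
    exact (hr.coprime_iff_not_dvd.mpr Q.not_dvd_index).symm
  have hle : N ≤ pPrimeCore r G := Core.le_pPrimeCore hNcop
  rcases S.simple ((pPrimeCore r G).map G.subtype) (map_subtype_le _)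
    (S.norm.trans (normalizer_le_map_char _)) (le_normalizer.trans (normalizer_le_map_char _)) with h | h
  · rw [map_eq_bot_iff_of_injective _ G.subtype_injective] at h
    have hN : N = ⊥ := le_bot_iff.mp (h ▸ hle)
    have hQ : (Q : Subgroup G) = ⊤ := by
      have := hNc.sup_eq_top
      rwa [hN, bot_sup_eq] at this
    have : IsPGroup r G := Q.isPGroup'.of_equiv ((MulEquiv.subgroupCongr hQ).trans Subgroup.topEquiv)
    exact S.notSolv (by have := this.isNilpotent; infer_instance)
  · have hc := Core.coprime_card_pPrimeCore (p := r) (G := G)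
    rw [← card_map_of_injective G.subtype_injective, h] at hc
    exact (hr.coprime_iff_not_dvd.mp hc.symm) hrd

theorem Min.exists_good (S : Min q A G) : ∃ M, Good A G M := by
  by_cases h : ∃ L, InClass A G L
  · obtain ⟨M, hM, hmax⟩ := Set.exists_max_image {L | InClass A G L} (fun L => Nat.card (Ftg L))
      (Set.toFinite _) h
    exact ⟨M, hM.1, hM.2.1, Or.inr ⟨hM, fun L hL => hmax L hL⟩⟩
  · push Not at h
    obtain ⟨M, hM, hn⟩ := S.exists_not_nilpotent
    exact ⟨M, hM, hn, Or.inl h⟩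

theorem Min.false (S : Min q A G) : False := by
  obtain ⟨M, hG⟩ := S.exists_good
  have hM := hG.1
  obtain ⟨c, hc, hc1, hMc, hlines⟩ := (hM.setup S).exists_line (hM.solvable S) hG.2.1
  refine S.no_cover hM.1.1 hM.1.2.1 hM.1.2.2 hc hc1 (fun e he hec x hx hxe => ?_) hMc
  obtain ⟨r, hr, y, hy, hy1, hye⟩ := hlines e he hec
  have := Fact.mk hr
  have he1 : e ≠ 1 := fun h0 => hec (h0 ▸ one_mem _)
  set E := Cor r M ⊓ centralizer ({e} : Set Γ)
  have hE1 : E ≠ ⊥ := fun h => hy1 (mem_bot.mp (h ▸ ⟨hy, mem_cent.mpr hye⟩))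
  have hEM : E ≤ M := inf_le_left.trans (cor_le r)
  have hAE : A ≤ normalizer (E : Set Γ) :=
    Coprime.le_normalizer_inf (hM.1.2.2.trans (normalizer_le_cor r))
      (le_normalizer_cent_single S.toBase he)
  obtain ⟨L, hL, hle⟩ := exists_isMax (A := A) (inf_le_left : G ⊓ centralizer (E : Set Γ) ≤ G)
    (S.cent_ne hM hEM hE1 hAE) (Coprime.le_normalizer_inf S.norm (le_normalizer_cent hAE))
  have hEG : E ≤ G := hEM.trans hM.1.1
  have hEL : E ≤ L := fun z hz => hle ⟨hEG hz, mem_centralizer_iff.mpr fun w hw =>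
    (S.ab e he he1 w (hEG hw) z (hEG hz) (mem_cent.mp hw.2) (mem_cent.mp hz.2)).eq⟩
  have hC : Cov M L := by
    intro v hv z hz
    have := Fact.mk hv
    refine hle ⟨((cor_le v).trans hM.1.1) hz.1, mem_centralizer_iff.mpr fun w hw => ?_⟩
    by_cases hvr : v = r
    · subst hvr
      exact mem_centralizer_iff.mp hz.2 w ⟨hw.1, hEL hw⟩
    · exact (cor_commute (Ne.symm hvr) w hw.1 z hz.1).eq
  have hLM := hG.eq_of_cov S (fun s hs => S.toSetup.exists_sylow hs) hL hC
  exact hLM ▸ hle ⟨hx, mem_centralizer_iff.mpr fun z hz =>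
    (S.ab e he he1 z (hEG hz) x hx (mem_cent.mp hz.2) hxe).eq⟩

theorem isSolvable_aux : ∀ n : ℕ, ∀ {Γ : Type u} [Group Γ] [Finite Γ] {A G : Subgroup Γ},
    Base q A G → Nat.card G ≤ n → Group.IsSolvable G := by
  intro n
  induction n with
  | zero => intro Γ _ _ A G _ h; exact absurd h (by have := Nat.card_pos (α := G); omega)
  | succ n ih =>
    intro Γ _ _ A G S hn
    have hproper : ∀ H : Subgroup Γ, H ≤ G → H ≠ G → A ≤ normalizer (H : Set Γ) → Group.IsSolvable H :=
      fun H h1 h2 h3 => ih (S.mono h1 h3)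
        (Nat.lt_succ_iff.mp ((Core.card_lt_of_lt (lt_of_le_of_ne h1 h2)).trans_le hn))
    by_contra hns
    have hsimple : ∀ N : Subgroup Γ, N ≤ G → A ≤ normalizer (N : Set Γ) → G ≤ normalizer (N : Set Γ) →
        N = ⊥ ∨ N = G := by
      intro N hNG hNA hNn
      by_contra h
      push Not at h
      set Δ : Subgroup Γ := G ⊔ A
      have hGΔ : G ≤ Δ := le_sup_left
      have hAΔ : A ≤ Δ := le_sup_right
      have hΔN : Δ ≤ normalizer (N : Set Γ) := sup_le hNn hNA
      have hn' : (N.subgroupOf Δ).Normal := normal_subgroupOf_of_le_normalizer hΔN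
      set μ := QuotientGroup.mk' (N.subgroupOf Δ)
      have hker : μ.ker ≤ G.subgroupOf Δ := by
        rw [QuotientGroup.ker_mk']; exact fun x hx => hNG hx
      have hlt : Nat.card ((G.subgroupOf Δ).map μ) ≤ n := by
        have h2 := FixedPointFree.card_map_quotient_lt (L := G.subgroupOf Δ) (V := N.subgroupOf Δ)
          (fun x hx => hNG hx)
          (fun h2 => h.1 (by rw [← map_subgroupOf_eq_of_le (hNG.trans hGΔ), h2, Subgroup.map_bot]))
        rw [Coprime.card_subgroupOf hGΔ] at h2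
        exact Nat.lt_succ_iff.mp (h2.trans_le hn)
      have hq := ih ((S.subgroupOf Δ hAΔ hGΔ).map μ hker) hlt
      have hN : Group.IsSolvable N := hproper N hNG h.2 hNA
      refine hns (Coprime.isSolvable_of_subgroupOf hGΔ ?_)
      have hNs : Group.IsSolvable (N.subgroupOf Δ) := Coprime.isSolvable_subgroupOf Δ hN
      exact Group.isSolvable_of_ker_le_range (inclusion (show N.subgroupOf Δ ≤ G.subgroupOf Δ from
        fun x hx => hNG hx)) (μ.subgroupMap (G.subgroupOf Δ)) (fun x hx =>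
        ⟨⟨x, (QuotientGroup.eq_one_iff (N := N.subgroupOf Δ) (x : Δ)).mp (congrArg Subtype.val hx)⟩,
          rfl⟩)
    have hfpf : ∀ x ∈ G, (∀ a ∈ A, Commute x a) → x = 1 := by
      intro x hx hxa
      set Z := G ⊓ centralizer (A : Set Γ)
      have hxZ : x ∈ Z := ⟨hx, mem_centralizer_iff.mpr fun a ha => (hxa a ha).eq.symm⟩
      have hZc : G ≤ centralizer (Z : Set Γ) := S.generate le_rfl S.norm fun a ha ha1 y hy hya =>
        mem_centralizer_iff.mpr fun z hz => (S.ab a ha ha1 z hz.1 y hy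
          (mem_centralizer_iff.mp hz.2 a ha).symm hya).eq
      have hAZ : A ≤ normalizer (Z : Set Γ) := Coprime.le_normalizer_inf S.norm
        (le_normalizer_cent le_normalizer)
      rcases hsimple Z inf_le_left hAZ (hZc.trans (centralizer_le_normalizer _)) with h | h
      · exact mem_bot.mp (h ▸ hxZ)
      · refine absurd (Group.isSolvable_of_comm fun a b => Subtype.ext ?_) hns
        exact mem_centralizer_iff.mp (hZc b.2) (a : Γ) (h.ge a.2)
    exact Min.false ⟨⟨S, hfpf⟩, hproper, hsimple, hns⟩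

/-- The solvability theorem. -/
theorem Base.isSolvable (S : Base q A G) : Group.IsSolvable G := isSolvable_aux _ S le_rfl

end Cfsg.Agent.AbCentFpf
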