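import Cfsg.Agent.Coprime.Generation
import Cfsg.Agent.Coprime.Elementary
import Cfsg.Agent.Core.Basics

/-!
A group `A` of type `(q,q)` acting coprimely on `K` with abelian centralisers of its non-identity
elements.
-/

set_option autoImplicit false

open Subgroup

namespace Cfsg.Agent.AbCentFpf

universe u

variable {Γ : Type u} [Group Γ]

/-- The basic hypothesis. -/
structure Base (q : ℕ) (A K : Subgroup Γ) : Prop where
  hq : q.Prime
  cardA : Nat.card A = q ^ 2
  expA : ∀ a ∈ A, a ^ q = 1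
  commA : ∀ a ∈ A, ∀ b ∈ A, Commute a b
  norm : A ≤ normalizer (K : Set Γ)
  cop : ¬ q ∣ Nat.card K
  ab : ∀ a ∈ A, a ≠ 1 → ∀ x ∈ K, ∀ y ∈ K, Commute x a → Commute y a → Commute x y

/-- The hypothesis together with `C_K(A) = 1`. -/
structure Setup (q : ℕ) (A K : Subgroup Γ) : Prop extends Base q A K where
  fpf : ∀ x ∈ K, (∀ a ∈ A, Commute x a) → x = 1

theorem mem_cent {a x : Γ} : x ∈ centralizer ({a} : Set Γ) ↔ Commute x a :=
  mem_centralizer_singleton_iff

theorem commute_of_mem_zpowers {a g x : Γ} (ha : a ∈ zpowers g) (h : Commute x g) : Commute x a := by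
  obtain ⟨k, rfl⟩ := mem_zpowers_iff.mp ha
  exact h.zpow_right k

namespace Base

variable {q : ℕ} {A K : Subgroup Γ}

theorem isMulComm (S : Base q A K) : IsMulCommutative A :=
  ⟨⟨fun a b => Subtype.ext (S.commA _ a.2 _ b.2).eq⟩⟩

theorem solvA (S : Base q A K) : Group.IsSolvable A :=
  Group.isSolvable_of_comm fun a b => Subtype.ext (S.commA _ a.2 _ b.2).eq

theorem orderOf_eq (S : Base q A K) {a : Γ} (ha : a ∈ A) (h : a ≠ 1) : orderOf a = q := by
  have := Fact.mk S.hq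
  exact orderOf_eq_prime (S.expA a ha) h

theorem zpowers_eq (S : Base q A K) {a g : Γ} (hg : g ∈ A) (ha : a ∈ zpowers g) (ha1 : a ≠ 1) :
    g ∈ zpowers a := by
  have hgc : g ≠ 1 := by rintro rfl; simp at ha; exact ha1 ha
  have hA : a ∈ A := (zpowers_le.mpr hg) ha
  have hle : zpowers a ≤ zpowers g := zpowers_le.mpr ha
  have : Finite (zpowers g) := Nat.finite_of_card_ne_zero (by
    rw [Nat.card_zpowers, S.orderOf_eq hg hgc]; exact S.hq.ne_zero)
  have heq : zpowers a = zpowers g := eq_of_le_of_card_ge hle (by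
    rw [Nat.card_zpowers, Nat.card_zpowers, S.orderOf_eq hA ha1, S.orderOf_eq hg hgc])
  exact heq ▸ mem_zpowers g

theorem commute_line (S : Base q A K) {a g x : Γ} (hg : g ∈ A) (ha : a ∈ zpowers g) (ha1 : a ≠ 1) :
    Commute x a ↔ Commute x g :=
  ⟨commute_of_mem_zpowers (S.zpowers_eq hg ha ha1), commute_of_mem_zpowers ha⟩

theorem not_mem_symm (S : Base q A K) {g h : Γ} (hg : g ∈ A) (hg1 : g ≠ 1) (hh : h ∈ A)
    (hne : h ∉ zpowers g) : g ∉ zpowers h := fun hm => hne (S.zpowers_eq hh hm hg1)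

theorem closure_pair (S : Base q A K) {g h : Γ} (hg : g ∈ A) (hg1 : g ≠ 1) (hh : h ∈ A)
    (hne : h ∉ zpowers g) : closure ({g, h} : Set Γ) = A := by
  have : Finite A := Nat.finite_of_card_ne_zero (by rw [S.cardA]; exact pow_ne_zero _ S.hq.ne_zero)
  set C := closure ({g, h} : Set Γ)
  have hCA : C ≤ A := by
    rw [closure_le]; rintro x (rfl | rfl) <;> assumption
  have : Finite C := Finite.of_injective _ (inclusion_injective hCA)
  have hgC : zpowers g ≤ C := zpowers_le.mpr (subset_closure (by simp))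
  have hlt : zpowers g < C := lt_of_le_of_ne hgC fun he => hne (he ▸ subset_closure (by simp))
  have h1 := Core.card_lt_of_lt (H := (zpowers g).subgroupOf C) (K := ⊤)
    (lt_top_iff_ne_top.mpr fun h => hlt.not_ge (subgroupOf_eq_top.mp h))
  rw [Nat.card_congr (subgroupOfEquivOfLe hgC).toEquiv, Nat.card_zpowers, S.orderOf_eq hg hg1,
    card_top] at h1
  obtain ⟨i, hi, hc⟩ := (Nat.dvd_prime_pow S.hq).mp (S.cardA ▸ card_dvd_of_le hCA)
  refine eq_of_le_of_card_ge hCA ?_
  rw [S.cardA, hc]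
  rcases Nat.lt_or_ge i 2 with hi2 | hi2
  · exact absurd h1 (not_lt.mpr (hc ▸ (Nat.pow_le_pow_right S.hq.pos (Nat.le_of_lt_succ hi2)).trans
      (pow_one q).le))
  · exact Nat.pow_le_pow_right S.hq.pos hi2

theorem exists_pair (S : Base q A K) {c : Γ} (hc : c ∈ A) (hc1 : c ≠ 1) :
    ∃ h ∈ A, ∃ h' ∈ A, h ∉ zpowers c ∧ h' ∉ zpowers c ∧ h' ∉ zpowers h := by
  have : Finite A := Nat.finite_of_card_ne_zero (by rw [S.cardA]; exact pow_ne_zero _ S.hq.ne_zero)
  obtain ⟨h, hh, hne⟩ : ∃ h ∈ A, h ∉ zpowers c := by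
    by_contra hall
    push Not at hall
    have : A = zpowers c := le_antisymm hall (zpowers_le.mpr hc)
    have h2 := S.cardA
    rw [this, Nat.card_zpowers, S.orderOf_eq hc hc1] at h2
    nlinarith [S.hq.two_le]
  refine ⟨h, hh, c * h, A.mul_mem hc hh, hne, fun hm => hne ?_, fun hm => ?_⟩
  · simpa using (zpowers c).mul_mem (inv_mem (mem_zpowers c)) hm
  · exact S.not_mem_symm hc hc1 hh hne (by simpa using (zpowers h).mul_mem hm (inv_mem (mem_zpowers h)))

theorem coprime_card (S : Base q A K) [Finite Γ] {H : Subgroup Γ} (h : H ≤ K) :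
    (Nat.card A).Coprime (Nat.card H) := by
  rw [S.cardA]
  exact (S.hq.coprime_iff_not_dvd.mpr fun hd => S.cop (hd.trans (card_dvd_of_le h))).pow_left 2

theorem mono (S : Base q A K) [Finite Γ] {H : Subgroup Γ} (h : H ≤ K)
    (hn : A ≤ normalizer (H : Set Γ)) : Base q A H :=
  { S with
    norm := hn
    cop := fun hd => S.cop (hd.trans (card_dvd_of_le h))
    ab := fun a ha ha1 x hx y hy => S.ab a ha ha1 x (h hx) y (h hy) }

theorem not_isCyclic (S : Base q A K) : ¬ IsCyclic A := by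
  intro hcyc
  obtain ⟨g, hg⟩ := hcyc.exists_generator
  have h1 : orderOf g = q ^ 2 := by
    rw [orderOf_eq_card_of_forall_mem_zpowers hg, S.cardA]
  have h2 : orderOf g ∣ q := orderOf_dvd_of_pow_eq_one (Subtype.ext (by simpa using S.expA g g.2))
  have := Nat.le_of_dvd S.hq.pos h2
  rw [h1] at this
  nlinarith [S.hq.two_le]

/-- Generation by centralisers. -/
theorem generate (S : Base q A K) [Finite Γ] {H W : Subgroup Γ} (hHK : H ≤ K)
    (hH : A ≤ normalizer (H : Set Γ))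
    (h : ∀ a ∈ A, a ≠ 1 → ∀ x ∈ H, Commute x a → x ∈ W) : H ≤ W := by
  have := S.isMulComm
  rw [← Coprime.iSup_centralizer_eq S.not_isCyclic hH (S.coprime_card hHK)]
  exact iSup₂_le fun a ha x hx => h a ha.1 ha.2 x hx.1 (mem_cent.mp hx.2)

theorem map (S : Base q A K) [Finite Γ] {Γ' : Type*} [Group Γ'] (f : Γ →* Γ') (hker : f.ker ≤ K) :
    Base q (A.map f) (K.map f) := by
  have hinj : ∀ a ∈ A, f a = 1 → a = 1 := fun a ha h =>
    (mem_bot).mp (Coprime.inf_eq_bot_of_coprime (S.coprime_card hker) ▸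
      (⟨ha, h⟩ : a ∈ A ⊓ f.ker))
  have hi : Function.Injective (f.subgroupMap A) := by
    rw [injective_iff_map_eq_one]
    exact fun x hx => Subtype.ext (hinj x x.2 (congrArg Subtype.val hx))
  refine ⟨S.hq, ?_, ?_, ?_, (map_mono S.norm).trans (le_normalizer_map f), ?_, ?_⟩
  · rw [← Nat.card_congr (Equiv.ofBijective _ ⟨hi, f.subgroupMap_surjective A⟩), S.cardA]
  · rintro _ ⟨a, ha, rfl⟩; rw [← map_pow, S.expA a ha, map_one]
  · rintro _ ⟨a, ha, rfl⟩ _ ⟨b, hb, rfl⟩; exact (S.commA a ha b hb).map f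
  · exact fun hd => S.cop (hd.trans (card_dvd_of_surjective _ (f.subgroupMap_surjective K)))
  · rintro _ ⟨a, ha, rfl⟩ ha1 x hx y hy hxa hya
    have hle : zpowers a ≤ A := zpowers_le.mpr ha
    have hl : ∀ z ∈ K.map f, Commute z (f a) → ∃ k ∈ K, Commute k a ∧ f k = z := by
      intro z hz hza
      have hm : z ∈ K.map f ⊓ centralizer (((zpowers a).map f : Subgroup Γ') : Set Γ') := by
        refine ⟨hz, mem_centralizer_iff.mpr fun w hw => ?_⟩
        rw [MonoidHom.map_zpowers] at hw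
        exact (commute_of_mem_zpowers hw hza).eq.symm
      rw [← Coprime.map_inf_centralizer f (hle.trans S.norm) hker
        ((S.coprime_card hker).coprime_dvd_left (card_dvd_of_le hle))
        (Or.inl (Core.isSolvable_mono S.solvA hle))] at hm
      obtain ⟨k, ⟨hk, hkc⟩, rfl⟩ := hm
      exact ⟨k, hk, (mem_centralizer_iff.mp hkc a (mem_zpowers a)).symm, rfl⟩
    obtain ⟨k, hk, hka, rfl⟩ := hl x hx hxa
    obtain ⟨l, hlK, hla, rfl⟩ := hl y hy hya
    exact (S.ab a ha (fun h => ha1 (h ▸ map_one f)) k hk l hlK hka hla).map f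

theorem subgroupOf (S : Base q A K) (Δ : Subgroup Γ) (hA : A ≤ Δ) (hK : K ≤ Δ) :
    Base q (A.subgroupOf Δ) (K.subgroupOf Δ) := by
  refine ⟨S.hq, ?_, fun a ha => Subtype.ext (S.expA _ ha), fun a ha b hb => ?_, fun a ha => ?_, ?_,
    fun a ha ha1 x hx y hy hxa hya => ?_⟩
  · rw [Nat.card_congr (subgroupOfEquivOfLe hA).toEquiv, S.cardA]
  · exact Subtype.ext (S.commA _ ha _ hb).eq
  · rw [mem_normalizer_iff]
    intro x
    exact mem_normalizer_iff.mp (S.norm ha) x
  · rw [Nat.card_congr (subgroupOfEquivOfLe hK).toEquiv]; exact S.cop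
  · exact Subtype.ext (S.ab _ ha (fun h => ha1 (Subtype.ext h)) _ hx _ hy
      (congrArg Subtype.val hxa.eq) (congrArg Subtype.val hya.eq)).eq

end Base

namespace Setup

variable {q : ℕ} {A K : Subgroup Γ}

theorem fpf_pair (S : Setup q A K) {g h x : Γ} (hg : g ∈ A) (hg1 : g ≠ 1) (hh : h ∈ A)
    (hne : h ∉ zpowers g) (hx : x ∈ K) (hxg : Commute x g) (hxh : Commute x h) : x = 1 := by
  refine S.fpf x hx fun a ha => ?_
  rw [← S.toBase.closure_pair hg hg1 hh hne] at ha
  have : closure ({g, h} : Set Γ) ≤ centralizer {x} := by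
    rw [closure_le]
    rintro y (rfl | rfl)
    · exact mem_cent.mpr hxg.symm
    · exact mem_cent.mpr hxh.symm
  exact (mem_cent.mp (this ha)).symm

theorem mono (S : Setup q A K) [Finite Γ] {H : Subgroup Γ} (h : H ≤ K)
    (hn : A ≤ normalizer (H : Set Γ)) : Setup q A H :=
  ⟨S.toBase.mono h hn, fun x hx => S.fpf x (h hx)⟩

theorem map (S : Setup q A K) [Finite Γ] {Γ' : Type*} [Group Γ'] (f : Γ →* Γ') (hker : f.ker ≤ K) :
    Setup q (A.map f) (K.map f) := by
  refine ⟨S.toBase.map f hker, fun x hx hxa => ?_⟩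
  have hm : x ∈ K.map f ⊓ centralizer ((A.map f : Subgroup Γ') : Set Γ') :=
    ⟨hx, mem_centralizer_iff.mpr fun w hw => (hxa w hw).eq.symm⟩
  rw [← Coprime.map_inf_centralizer f S.norm hker (S.toBase.coprime_card hker)
    (Or.inl S.toBase.solvA)] at hm
  obtain ⟨k, ⟨hk, hkc⟩, rfl⟩ := hm
  rw [S.fpf k hk fun a ha => (mem_centralizer_iff.mp hkc a ha).symm, map_one]

theorem subgroupOf (S : Setup q A K) (Δ : Subgroup Γ) (hA : A ≤ Δ) (hK : K ≤ Δ) :
    Setup q (A.subgroupOf Δ) (K.subgroupOf Δ) :=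
  ⟨S.toBase.subgroupOf Δ hA hK, fun x hx hxa =>
    Subtype.ext (S.fpf _ hx fun a ha =>
      congrArg Subtype.val (hxa ⟨a, hA ha⟩ ha).eq)⟩

end Setup

end Cfsg.Agent.AbCentFpf
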